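import Groth.Agent.Sga4h.H920.LisseCrit
import Mathlib.Algebra.Module.ZMod
import Mathlib.LinearAlgebra.FreeModule.Finite.Basic
import Mathlib.LinearAlgebra.Dimension.Finite

/-!
# The value group of a locally constant sheaf killed by a prime
-/

set_option autoImplicit false
universe u

open CategoryTheory CategoryTheory.Limits AlgebraicGeometry Opposite Topology
open Groth.Agent.EtpbcA.Germ Groth.Agent.EtpbcA.FLC

namespace Groth.Agent.Sga4h.H920.LisseVal

/-- Finite abelian groups killed by a prime with the same cardinality are isomorphic. -/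
theorem nonempty_addEquiv_of_card (ℓ : ℕ) [Fact ℓ.Prime] (M N : Type*) [AddCommGroup M] [AddCommGroup N]
    [Finite M] [Finite N] (hM : ∀ m : M, ℓ • m = 0) (hN : ∀ m : N, ℓ • m = 0)
    (h : Nat.card M = Nat.card N) : Nonempty (M ≃+ N) := by
  letI iM : Module (ZMod ℓ) M := AddCommGroup.zmodModule (n := ℓ) hM
  letI iN : Module (ZMod ℓ) N := AddCommGroup.zmodModule (n := ℓ) hN
  have h1 := Module.natCard_eq_pow_finrank (K := ZMod ℓ) (V := M)
  have h2 := Module.natCard_eq_pow_finrank (K := ZMod ℓ) (V := N)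
  rw [h1, h2, Nat.card_zmod] at h
  have h3 : Module.finrank (ZMod ℓ) M = Module.finrank (ZMod ℓ) N :=
    Nat.pow_right_injective (Fact.out : ℓ.Prime).two_le h
  have e : M ≃ₗ[ZMod ℓ] N := LinearEquiv.ofFinrankEq _ _ h3
  exact ⟨e.toAddEquiv⟩

variable {X : Scheme.{u}}

/-- A finite locally constant sheaf killed by the prime `ℓ` all of whose stalks have the cardinality of `M`
is locally constant with value `M`. -/
theorem isLCValue_of_card {F : EtCoh.Ab X} (hF : EtCoh.IsFiniteLocallyConstant F) (ℓ : ℕ) [Fact ℓ.Prime]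
    (hk : EtCoh.KilledBy ℓ F) (M : Type) [AddCommGroup M] [Finite M] (hM : ∀ m : M, ℓ • m = 0)
    (hcard : ∀ (Ω : Type u) [Field Ω] [IsSepClosed Ω] (ξ : Spec (CommRingCat.of Ω) ⟶ X),
      Nat.card ((EtCoh.stalk ξ).obj F : Type (u + 1)) = Nat.card M) : LangSh.IsLCValue F M := by
  rw [flc_iff] at hF
  choose U w N h1 h2 φ h3 h4 using hF
  refine ⟨X, U, fun x => ⟨x, w x, h3 x⟩, fun x => ?_⟩
  obtain ⟨Ω, _, _, ξ, t, -⟩ := exists_geomPt (X := X) (w x)
  have hb := h4 x Ω ξ t
  have hN : ∀ m : N x, ℓ • m = 0 := by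
    intro m
    apply hb.1
    change germ ξ F t (φ x (ℓ • m)) = germ ξ F t (φ x 0)
    rw [map_nsmul, hk, map_zero, map_zero, map_zero]
  have hc : Nat.card M = Nat.card (N x) := by
    rw [← hcard Ω ξ]
    exact (Nat.card_congr (Equiv.ofBijective _ hb)).symm
  obtain ⟨e⟩ := nonempty_addEquiv_of_card ℓ M (N x) hM hN hc
  have := (nonempty_iso_iff F (U x) (M := M)).2 ⟨(φ x).comp e.toAddMonoidHom, (h4 x).comp_equiv e⟩
  exact this

end Groth.Agent.Sga4h.H920.LisseVal
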