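import Groth.Agent.Sga4h.H920.LisseCrit
import Groth.Agent.EtpbcB.SuppZero
import Groth.Agent.Etrest.SuppIn
import Groth.Agent.Etcore.ShriekBasic
import Groth.Agent.EtpbcA.SubSheaf

/-!
# No sections supported on closed points from `H^0(Y, ι_! R) = 0`

* `eq_zero_of_supp_closed`: on a scheme of finite type over a separably closed field, if `H^0(Y, N) = 0` then
  sections of `N` over etale schemes with support in closed points vanish;
* `noPunct_of_H0`: `ι : V ⟶ Y` open immersion, `V` irreducible of dimension `≤ 1`, `H^0(Y, ι_! R) = 0`, then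
  `R` has no sections vanishing generically.
-/

set_option autoImplicit false
universe u

open CategoryTheory CategoryTheory.Limits AlgebraicGeometry Opposite Topology
open Groth.Agent.EtpbcA.Germ

namespace Groth.Agent.Sga4h.H920.NoPunct

variable {Y : Scheme.{u}}

theorem supp_suppIn (N : EtCoh.Ab Y) (T : Set Y) : EtPBC.supp (Groth.Agent.Etrest.SuppIn.suppIn N T) ⊆ T := by
  intro y hy
  by_contra hyT
  refine (Groth.Agent.EtpbcA.Artin.not_mem_supp_iff _ y).2 ?_ hy
  intro U s v hv
  have h1 : v ∉ EtShriek.sectSupp (Groth.Agent.Etrest.SuppIn.suppIn N T) U s := by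
    intro h
    apply hyT
    rw [← hv]
    exact Groth.Agent.Etrest.SuppIn.suppIn_supp s h
  rw [Groth.Agent.Etrest.Supp.notMem_sectSupp_iff] at h1
  obtain ⟨W, g, w, hw, h⟩ := h1
  exact ⟨W, g, ⟨w, hw⟩, h⟩

theorem hom_eq_zero_of_H0 {N : EtCoh.Ab Y} (h0 : Subsingleton (EtCoh.H Y N 0)) (s : EtCoh.const Y ℤ ⟶ N) :
    s = 0 :=
  (Abelian.Ext.mk₀_bijective _ _).1 (@Subsingleton.elim _ h0 (Abelian.Ext.mk₀ s) (Abelian.Ext.mk₀ 0))

/-- Sections supported on closed points vanish if there are no global sections. -/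
theorem eq_zero_of_supp_closed {K : Type u} [Field K] [IsSepClosed K] (a : Y ⟶ Spec (CommRingCat.of K))
    [LocallyOfFiniteType a] [QuasiCompact a] (N : EtCoh.Ab Y) (h0 : Subsingleton (EtCoh.H Y N 0))
    (U : Y.Etale) (s : EtCoh.sect N U)
    (hs : ∀ x ∈ EtShriek.sectSupp N U s, IsClosed ({U.hom x} : Set Y)) : s = 0 := by
  let T : Set Y := {y | IsClosed ({y} : Set Y)}
  have hz : IsZero (Groth.Agent.Etrest.SuppIn.suppIn N T) := by
    refine Groth.Agent.EtpbcB.SuppZero.isZero_of_supp a _ (fun x hx => supp_suppIn N T hx) fun t => ?_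
    have hmono : Mono (Groth.Agent.Etrest.SuppIn.ι N T) := by
      have h1 : Mono (Groth.Agent.Etrest.SuppIn.ι N T).hom := by
        rw [NatTrans.mono_iff_mono_app]
        intro V
        rw [AddCommGrpCat.mono_iff_injective]
        exact Groth.Agent.Etrest.SuppIn.ι_injective V.unop
      exact (sheafToPresheaf _ _).mono_of_mono_map h1
    rw [← cancel_mono (Groth.Agent.Etrest.SuppIn.ι N T), hom_eq_zero_of_H0 h0 (t ≫ _), zero_comp]
  have hmem : s ∈ Groth.Agent.Etrest.SuppIn.sub N T U := fun x hx => hs x hx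
  obtain ⟨r, hr⟩ := Groth.Agent.Etrest.SuppIn.exists_of_mem hmem
  have hr0 : r = 0 := by
    have h1 : IsZero ((Groth.Agent.Etrest.SuppIn.suppIn N T).obj.obj (op U)) :=
      ((sheafToPresheaf _ _ ⋙ (evaluation _ _).obj (op U)).map_isZero hz)
    exact (AddCommGrpCat.isZero_iff_subsingleton.1 h1).elim _ _
  rw [← hr, hr0]
  exact map_zero _

/-- `ι : V ⟶ Y` open, `V` irreducible whose non-generic points are closed. -/
theorem noPunct_of_H0 {K : Type u} [Field K] [IsSepClosed K] {V : Scheme.{u}} (ι : V ⟶ Y) [IsOpenImmersion ι]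
    (a : Y ⟶ Spec (CommRingCat.of K)) [LocallyOfFiniteType a] [QuasiCompact a] [IrreducibleSpace V]
    [JacobsonSpace Y]
    (hdim : ∀ x : V, x ≠ genericPoint V → IsClosed ({x} : Set V)) (R : EtCoh.Ab V)
    (h0 : Subsingleton (EtCoh.H Y ((EtShriek.extZero ι).obj R) 0)) : LisseCrit.NoPunct R := by
  intro U s hs
  let N := (EtShriek.extZero ι).obj R
  have hη : IsIso ((EtShriek.extZeroAdj ι).unit.app R) := inferInstance
  have hη' : Function.Injective (((EtShriek.extZeroAdj ι).unit.app R).hom.app (op U)) :=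
    Groth.Agent.EtpbcA.SubSheaf.injective_app_of_mono _ U
  apply hη'
  rw [map_zero]
  let s' : EtCoh.sect N ((EtShriek.compEtale ι).obj U) := ((EtShriek.extZeroAdj ι).unit.app R).hom.app (op U) s
  change s' = 0
  refine eq_zero_of_supp_closed a N h0 _ s' fun x hx => ?_
  have hxU : (U.hom x : V) ≠ genericPoint V := by
    intro hgen
    obtain ⟨Ω, _, _, ξ, t, ht⟩ := exists_geomPt (X := V) (U := U) x
    have h1 : ξ default = genericPoint V := by rw [← hom_pt ξ t, ht, hgen]
    have h2 := hs Ω ξ t h1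
    rw [← map_zero (germ ξ R t)] at h2
    obtain ⟨W, g, w, hw, e⟩ := (germ_eq_iff ξ R _ _ _).1 h2
    refine (Groth.Agent.Etrest.Supp.notMem_sectSupp_iff (F := N) _ _ _).2 ?_ hx
    refine ⟨(EtShriek.compEtale ι).obj W, (EtShriek.compEtale ι).map g, pt ξ w, ?_, ?_⟩
    · rw [← ht, ← hw, pt_fmap]
      rfl
    · have h3 := congrArg (fun k => k s)
        (congrArg AddCommGrpCat.Hom.hom (((EtShriek.extZeroAdj ι).unit.app R).hom.naturality g.op))
      refine Eq.trans (b := ((EtShriek.extZeroAdj ι).unit.app R).hom.app (op W) (R.obj.map g.op s)) h3.symm ?_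
      rw [e, map_zero]
      exact map_zero _
  have h1 : IsClosed ({U.hom x} : Set V) := hdim _ hxU
  have h2 : IsLocallyClosed ({ι (U.hom x)} : Set Y) := by
    have h4 : ({ι (U.hom x)} : Set Y) = ι '' {U.hom x} := by rw [Set.image_singleton]
    rw [h4]
    exact h1.isLocallyClosed.image ι.isOpenEmbedding.isInducing ι.isOpenEmbedding.isOpen_range.isLocallyClosed
  have h3 := isClosed_singleton_of_isLocallyClosed_singleton h2
  exact h3

end Groth.Agent.Sga4h.H920.NoPunct
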