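import Mathlib.Algebra.Homology.DerivedCategory.HomologySequence
import Mathlib.Algebra.Homology.DerivedCategory.Basic
import Mathlib.Algebra.Homology.ShortComplex.Ab
import Mathlib.Algebra.Homology.HomotopyCategory.Pretriangulated
import Groth.Agent.Etalg.LACoreB0

/-!
# A long exact sequence from a homotopy cartesian square

`A ⟶ B`, `A' ⟶ B'`, with `cone(A ⟶ B) ⟶ cone(A' ⟶ B')` a quasi-isomorphism and `A'` acyclic: long exact
sequence `H^n A ⟶ H^n B ⟶ H^n B' ⟶ H^{n+1} A`.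
-/

set_option autoImplicit false
set_option maxHeartbeats 400000
universe w v u

open CategoryTheory CategoryTheory.Limits CochainComplex Pretriangulated

namespace Groth.Agent.Sga4h.H920.ConeLES

variable {C : Type u} [Category.{v} C] [Abelian C]
  {A B A' B' : CochainComplex C ℤ} (Φ : A ⟶ B) (Φ' : A' ⟶ B') (α : A ⟶ A') (β : B ⟶ B')
  (comm : Φ ≫ β = α ≫ Φ')

theorem inr_map : mappingCone.inr Φ ≫ mappingCone.map Φ Φ' α β comm = β ≫ mappingCone.inr Φ' := by
  simp [mappingCone.map]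

theorem isIso_Q_inr [HasDerivedCategory.{w} C] (hA' : A'.Acyclic) :
    IsIso (DerivedCategory.Q.map (mappingCone.inr Φ')) := by
  have hT := DerivedCategory.mappingCone_triangle_distinguished Φ'
  have h0 : IsZero (DerivedCategory.Q.obj A') := by
    have hz : ∀ n, IsZero (A'.homology n) := fun n => (hA' n).isZero_homology
    have hq : QuasiIso (0 : A' ⟶ A') := by
      rw [quasiIso_iff]
      intro n
      rw [quasiIsoAt_iff_isIso_homologyMap]
      exact ⟨0, (hz n).eq_of_src _ _, (hz n).eq_of_src _ _⟩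
    have h1 : IsIso (DerivedCategory.Q.map (0 : A' ⟶ A')) := inferInstance
    rw [Functor.map_zero] at h1
    exact (IsZero.iff_id_eq_zero _).2 ((isIsoZeroSelfEquiv _) h1)
  exact (Triangle.isZero₁_iff_isIso₂ _ hT).1 h0

theorem exists_triangle [HasDerivedCategory.{w} C] (hq : QuasiIso (mappingCone.map Φ Φ' α β comm))
    (hA' : A'.Acyclic) :
    ∃ δ : DerivedCategory.Q.obj B' ⟶ (DerivedCategory.Q.obj A)⟦(1 : ℤ)⟧,
      Triangle.mk (DerivedCategory.Q.map Φ) (DerivedCategory.Q.map β) δ ∈ distTriang (DerivedCategory C) := by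
  have h1 := isIso_Q_inr Φ' hA'
  have h2 : IsIso (DerivedCategory.Q.map (mappingCone.map Φ Φ' α β comm)) := inferInstance
  have hT := DerivedCategory.mappingCone_triangle_distinguished Φ
  let T : Triangle (DerivedCategory C) :=
    DerivedCategory.Q.mapTriangle.obj (mappingCone.triangle Φ)
  let e : DerivedCategory.Q.obj (mappingCone Φ) ≅ DerivedCategory.Q.obj B' :=
    asIso (DerivedCategory.Q.map (mappingCone.map Φ Φ' α β comm)) ≪≫
      (asIso (DerivedCategory.Q.map (mappingCone.inr Φ'))).symm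
  have he : DerivedCategory.Q.map (mappingCone.inr Φ) ≫ e.hom = DerivedCategory.Q.map β := by
    change DerivedCategory.Q.map (mappingCone.inr Φ) ≫
      DerivedCategory.Q.map (mappingCone.map Φ Φ' α β comm) ≫
        inv (DerivedCategory.Q.map (mappingCone.inr Φ')) = _
    rw [← Category.assoc, IsIso.comp_inv_eq, ← Functor.map_comp, ← Functor.map_comp, inr_map]
  refine ⟨e.inv ≫ T.mor₃, ?_⟩
  refine isomorphic_distinguished _ hT _ ?_
  refine Triangle.isoMk _ _ (Iso.refl _) (Iso.refl _) e.symm ?_ ?_ ?_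
  · exact (Category.comp_id _).trans (Category.id_comp _).symm
  · change DerivedCategory.Q.map β ≫ e.inv = 𝟙 _ ≫ DerivedCategory.Q.map (mappingCone.inr Φ)
    rw [Category.id_comp, ← he, Category.assoc, e.hom_inv_id, Category.comp_id]
  · change (e.inv ≫ T.mor₃) ≫ (CategoryTheory.shiftFunctor (DerivedCategory C) (1 : ℤ)).map (𝟙 _) = e.inv ≫ T.mor₃
    rw [CategoryTheory.Functor.map_id, Category.comp_id]

/-- Exactness of two composable morphisms. -/
def Ex {X Y Z : C} (f : X ⟶ Y) (g : Y ⟶ Z) : Prop :=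
  ∃ w : f ≫ g = 0, (ShortComplex.mk f g w).Exact

theorem Ex.of_iso {X Y Z X' Y' Z' : C} {f : X ⟶ Y} {g : Y ⟶ Z} {f' : X' ⟶ Y'} {g' : Y' ⟶ Z'}
    (h : Ex f g) (eX : X ≅ X') (eY : Y ≅ Y') (eZ : Z ≅ Z') (h1 : f ≫ eY.hom = eX.hom ≫ f')
    (h2 : g ≫ eZ.hom = eY.hom ≫ g') : Ex f' g' := by
  obtain ⟨w, hw⟩ := h
  have w' : f' ≫ g' = 0 := by
    rw [← cancel_epi eX.hom, ← Category.assoc, ← h1, Category.assoc, ← h2, ← Category.assoc, w,
      zero_comp, comp_zero]
  refine ⟨w', ?_⟩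
  exact ShortComplex.exact_of_iso (ShortComplex.isoMk eX eY eZ h1.symm h2.symm) hw

theorem ex_iff {X Y Z : AddCommGrpCat.{v}} (f : X ⟶ Y) (g : Y ⟶ Z) :
    Ex f g ↔ ∀ y : Y, g y = 0 ↔ ∃ x : X, f x = y := by
  constructor
  · rintro ⟨w, h⟩ y
    rw [ShortComplex.ab_exact_iff] at h
    constructor
    · intro hy
      obtain ⟨x, hx⟩ := h y hy
      exact ⟨x, hx⟩
    · rintro ⟨x, rfl⟩
      exact ConcreteCategory.congr_hom w x
  · intro h
    have w : f ≫ g = 0 := by
      ext x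
      exact (h (f x)).2 ⟨x, rfl⟩
    refine ⟨w, ?_⟩
    rw [ShortComplex.ab_exact_iff]
    intro y hy
    obtain ⟨x, hx⟩ := (h y).1 hy
    exact ⟨x, hx⟩

theorem les (hq : QuasiIso (mappingCone.map Φ Φ' α β comm)) (hA' : A'.Acyclic) :
    ∃ δ : ∀ n₀ n₁ : ℤ, n₀ + 1 = n₁ → (B'.homology n₀ ⟶ A.homology n₁),
      (∀ n : ℤ, Ex (HomologicalComplex.homologyMap Φ n) (HomologicalComplex.homologyMap β n)) ∧
      (∀ (n₀ n₁ : ℤ) (h : n₀ + 1 = n₁), Ex (HomologicalComplex.homologyMap β n₀) (δ n₀ n₁ h)) ∧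
      (∀ (n₀ n₁ : ℤ) (h : n₀ + 1 = n₁), Ex (δ n₀ n₁ h) (HomologicalComplex.homologyMap Φ n₁)) := by
  letI := HasDerivedCategory.standard C
  obtain ⟨d, hd⟩ := exists_triangle Φ Φ' α β comm hq hA'
  let e := DerivedCategory.homologyFunctorFactors C
  let T : Triangle (DerivedCategory C) :=
    Triangle.mk (DerivedCategory.Q.map Φ) (DerivedCategory.Q.map β) d
  refine ⟨fun n₀ n₁ h => (e n₀).inv.app B' ≫
    (DerivedCategory.HomologySequence.δ T n₀ n₁ h : (DerivedCategory.homologyFunctor C n₀).obj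
      (DerivedCategory.Q.obj B') ⟶ (DerivedCategory.homologyFunctor C n₁).obj (DerivedCategory.Q.obj A)) ≫
        (e n₁).hom.app A, ?_, ?_, ?_⟩
  · intro n
    refine Ex.of_iso ⟨_, DerivedCategory.HomologySequence.exact₂ _ hd n⟩ ((e n).app A) ((e n).app B)
      ((e n).app B') ?_ ?_
    · exact (e n).hom.naturality Φ
    · exact (e n).hom.naturality β
  · intro n₀ n₁ h
    refine Ex.of_iso ⟨_, DerivedCategory.HomologySequence.exact₃ _ hd n₀ n₁ h⟩ ((e n₀).app B)
      ((e n₀).app B') ((e n₁).app A) ?_ ?_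
    · exact (e n₀).hom.naturality β
    · exact (Iso.hom_inv_id_assoc ((e n₀).app B') _).symm
  · intro n₀ n₁ h
    refine Ex.of_iso ⟨_, DerivedCategory.HomologySequence.exact₁ _ hd n₀ n₁ h⟩ ((e n₀).app B')
      ((e n₁).app A) ((e n₁).app B) ?_ ?_
    · exact (Iso.hom_inv_id_assoc ((e n₀).app B') _).symm
    · exact (e n₁).hom.naturality Φ

end Groth.Agent.Sga4h.H920.ConeLES
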