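import Mathlib.Algebra.Homology.HomotopyCategory.Pretriangulated
import Mathlib.Algebra.Homology.HomotopyCategory.ShortExact
import Mathlib.Algebra.Homology.QuasiIso

/-!
# Natural transformations and mapping cones
-/

set_option autoImplicit false
set_option maxHeartbeats 400000
universe v u v' u'

open CategoryTheory CategoryTheory.Limits CochainComplex

namespace Groth.Agent.Sga4h.H920.ConeNat

variable {C : Type u} [Category.{v} C] [Abelian C] {D : Type u'} [Category.{v'} D] [Abelian D]
  {F G : C ⥤ D} [F.Additive] [G.Additive] (η : F ⟶ G) {K L : CochainComplex C ℤ} (φ : K ⟶ L)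

theorem comm : (F.mapHomologicalComplex (ComplexShape.up ℤ)).map φ ≫
    (NatTrans.mapHomologicalComplex η (ComplexShape.up ℤ)).app L =
    (NatTrans.mapHomologicalComplex η (ComplexShape.up ℤ)).app K ≫
      (G.mapHomologicalComplex (ComplexShape.up ℤ)).map φ :=
  (NatTrans.mapHomologicalComplex η (ComplexShape.up ℤ)).naturality φ

set_option backward.defeqAttrib.useBackward true in
set_option backward.isDefEq.respectTransparency false in
theorem iso_hom_map :
    (mappingCone.mapHomologicalComplexIso φ F).hom ≫ mappingCone.map _ _
      ((NatTrans.mapHomologicalComplex η (ComplexShape.up ℤ)).app K)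
      ((NatTrans.mapHomologicalComplex η (ComplexShape.up ℤ)).app L) (comm η φ) =
    (NatTrans.mapHomologicalComplex η (ComplexShape.up ℤ)).app (mappingCone φ) ≫
      (mappingCone.mapHomologicalComplexIso φ G).hom := by
  ext n
  simp [mappingCone.mapHomologicalComplexIso, mappingCone.map, mappingCone.mapHomologicalComplexXIso,
    mappingCone.mapHomologicalComplexXIso'_hom,
    mappingCone.desc_f _ _ _ _ n (n + 1) rfl]

theorem quasiIso_map
    (h : QuasiIso ((NatTrans.mapHomologicalComplex η (ComplexShape.up ℤ)).app (mappingCone φ))) :
    QuasiIso (mappingCone.map _ _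
      ((NatTrans.mapHomologicalComplex η (ComplexShape.up ℤ)).app K)
      ((NatTrans.mapHomologicalComplex η (ComplexShape.up ℤ)).app L) (comm η φ)) := by
  have h1 : QuasiIso ((mappingCone.mapHomologicalComplexIso φ F).hom ≫ mappingCone.map _ _
      ((NatTrans.mapHomologicalComplex η (ComplexShape.up ℤ)).app K)
      ((NatTrans.mapHomologicalComplex η (ComplexShape.up ℤ)).app L) (comm η φ)) := by
    rw [iso_hom_map]
    infer_instance
  exact quasiIso_of_comp_left (mappingCone.mapHomologicalComplexIso φ F).hom _

end Groth.Agent.Sga4h.H920.ConeNat
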