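import Groth.Agent.EtpbcA.LAUnit
import Groth.Agent.Etrest.DEtMate
import Groth.Agent.EtpbcB.HRel

/-!
# The constant sheaf `ℤ` and commutative squares; the base change of sections

For a square `g' ≫ f = f' ≫ g`:
* `pullConst_kap`: `ℤ ≅ f'⁻¹ g⁻¹ ℤ ≅ g'⁻¹ f⁻¹ ℤ`;
* `baseChange0_adj`: for `s : ℤ ⟶ f_* N`, the section `g⁻¹ s ≫ baseChange0` of `f'_* g'⁻¹ N` corresponds to the
  pullback along `g'` of the section of `N` corresponding to `s`.
-/

set_option autoImplicit false
set_option maxHeartbeats 400000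
universe u

open CategoryTheory CategoryTheory.Limits AlgebraicGeometry Opposite

namespace Groth.Agent.Sga4h.H920.KapConst

open EtCoh Groth.Agent.EtpbcB Groth.Agent.EtpbcB.BCCalc Groth.Agent.EtpbcB.HRel
  Groth.Agent.EtpbcA.LA Groth.Agent.Etcore.PullCoh

variable {X Y X' Y' : Scheme.{u}} {f : X ⟶ Y} {g : Y' ⟶ Y} {f' : X' ⟶ Y'} {g' : X' ⟶ X}

theorem kap_hom_eq (w : g' ≫ f = f' ≫ g) : (kap w).hom = (EtCore.pullComp f' g).inv ≫
    (EtCore.pullCongr w).inv ≫ (EtCore.pullComp g' f).hom := by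
  have e2 : (BCCalc.pullCongr w).inv = (EtCore.pullCongr w).inv := by
    rw [← cancel_epi (BCCalc.pullCongr w).hom, Iso.hom_inv_id, Etrest.DEtMate.pullCongr_eq,
      Iso.hom_inv_id]
  simp only [kap, Iso.trans_hom, Iso.symm_hom]
  rw [Etrest.DEtMate.pullComp_hom_eq, Etrest.DEtMate.pullComp_inv_eq, e2]

theorem kap_theta (w : g' ≫ f = f' ≫ g) :
    (kap w).hom ≫ (Etcore.PullCoh.theta g' f (f' ≫ g) w).hom =
      (Etcore.PullCoh.theta f' g (f' ≫ g) rfl).hom := by
  rw [kap_hom_eq]
  simp only [Etcore.PullCoh.theta, Iso.trans_hom, Iso.symm_hom, Category.assoc, Iso.hom_inv_id_assoc,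
    Iso.inv_hom_id]
  rfl

theorem pullConst_kap (w : g' ≫ f = f' ≫ g) :
    (EtCore.pullConst f' ℤ).inv ≫ (pull f').map (EtCore.pullConst g ℤ).inv ≫
      (kap w).hom.app (const Y ℤ) =
    (EtCore.pullConst g' ℤ).inv ≫ (pull g').map (EtCore.pullConst f ℤ).inv := by
  have h3 : (kap w).hom.app (const Y ℤ) ≫ (Etcore.PullCoh.theta g' f (f' ≫ g) w).hom.app (const Y ℤ) =
      (Etcore.PullCoh.theta f' g (f' ≫ g) rfl).hom.app (const Y ℤ) := by
    rw [← NatTrans.comp_app, kap_theta]
  rw [← cancel_mono ((Etcore.PullCoh.theta g' f (f' ≫ g) w).hom.app (const Y ℤ)), Category.assoc,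
    Category.assoc, h3, Category.assoc, pc_comp g' f (f' ≫ g) w, pc_comp f' g (f' ≫ g) rfl]

/-- Pullback of sections. -/
noncomputable def ps (f : X ⟶ Y) {M : Ab Y} (s : const Y ℤ ⟶ M) : const X ℤ ⟶ (pull f).obj M :=
  (EtCore.pullConst f ℤ).inv ≫ (pull f).map s

/-- Sections of `f_* N` are sections of `N`. -/
noncomputable def pa (f : X ⟶ Y) {N : Ab X} (s : const Y ℤ ⟶ (push f).obj N) : const X ℤ ⟶ N :=
  (EtCore.pullConst f ℤ).inv ≫ (pull f).map s ≫ (pullPushAdj f).counit.app N

theorem eq_unit (f : X ⟶ Y) {A : Ab Y} {N : Ab X} (s : A ⟶ (push f).obj N) :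
    s = (pullPushAdj f).unit.app A ≫ (push f).map ((pull f).map s ≫ (pullPushAdj f).counit.app N) := by
  have h1 : s ≫ (pullPushAdj f).unit.app ((push f).obj N) =
    (pullPushAdj f).unit.app A ≫ (push f).map ((pull f).map s) := (pullPushAdj f).unit.naturality s
  rw [(push f).map_comp, ← Category.assoc, ← h1, Category.assoc,
    (pullPushAdj f).right_triangle_components, Category.comp_id]

theorem map_counit (f : X ⟶ Y) {A : Ab Y} {N : Ab X} (t : (pull f).obj A ⟶ N) :
    (pull f).map ((pullPushAdj f).unit.app A ≫ (push f).map t) ≫ (pullPushAdj f).counit.app N = t := by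
  have h5 : (pull f).map ((push f).map t) ≫ (pullPushAdj f).counit.app N =
    (pullPushAdj f).counit.app ((pull f).obj A) ≫ t := (pullPushAdj f).counit.naturality t
  rw [(pull f).map_comp, Category.assoc, h5, ← Category.assoc]
  exact (congrArg (fun r => r ≫ t) ((pullPushAdj f).left_triangle_components A)).trans
    (Category.id_comp t)

theorem map_baseChange0 (w : g' ≫ f = f' ≫ g) {A : Ab Y} {N : Ab X} (t : (pull f).obj A ⟶ N) :
    (pull g).map ((pullPushAdj f).unit.app A ≫ (push f).map t) ≫ baseChange0 f g f' g' w N =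
      (pullPushAdj f').unit.app ((pull g).obj A) ≫
        (push f').map ((kap w).hom.app A ≫ (pull g').map t) := by
  have hbc : (pull g).map ((push f).map t) ≫ baseChange0 f g f' g' w N =
      baseChange0 f g f' g' w ((pull f).obj A) ≫ (push f').map ((pull g').map t) :=
    (bcNat w).naturality t
  rw [(pull g).map_comp, Category.assoc, hbc, ← Category.assoc, pull_unit_baseChange0, Category.assoc,
    ← (push f').map_comp]

theorem baseChange0_adj (w : g' ≫ f = f' ≫ g) (N : Ab X) (s : const Y ℤ ⟶ (push f).obj N) :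
    pa f' (ps g s ≫ baseChange0 f g f' g' w N) = ps g' (pa f s) := by
  let t : (pull f).obj (const Y ℤ) ⟶ N := (pull f).map s ≫ (pullPushAdj f).counit.app N
  have hs : s = (pullPushAdj f).unit.app (const Y ℤ) ≫ (push f).map t := eq_unit f s
  have h3 : (pull g).map s ≫ baseChange0 f g f' g' w N =
      (pullPushAdj f').unit.app ((pull g).obj (const Y ℤ)) ≫
        (push f').map ((kap w).hom.app (const Y ℤ) ≫ (pull g').map t) :=
    (congrArg (fun r => (pull g).map r ≫ baseChange0 f g f' g' w N) hs).trans (map_baseChange0 w t)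
  have h4 : (pull f').map ((pull g).map s ≫ baseChange0 f g f' g' w N) ≫
      (pullPushAdj f').counit.app ((pull g').obj N) =
      (kap w).hom.app (const Y ℤ) ≫ (pull g').map t := by
    rw [h3]
    exact map_counit f' _
  have h6 := pullConst_kap w
  have h7 : (EtCore.pullConst f' ℤ).inv ≫ (pull f').map
    (((EtCore.pullConst g ℤ).inv ≫ (pull g).map s) ≫ baseChange0 f g f' g' w N) ≫
      (pullPushAdj f').counit.app ((pull g').obj N) =
    (EtCore.pullConst g' ℤ).inv ≫ (pull g').map ((EtCore.pullConst f ℤ).inv ≫ t) := by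
    rw [Category.assoc, (pull f').map_comp, Category.assoc, h4,
      (pull g').map_comp (EtCore.pullConst f ℤ).inv t]
    have h8 := congrArg (fun r => r ≫ (pull g').map t) h6
    simpa only [Category.assoc] using h8
  exact h7

end Groth.Agent.Sga4h.H920.KapConst
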