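import Groth.Agent.Sga4B.SpecConstr
import Groth.Agent.Sga4B.EtaleDomain
import Groth.Prelude.Def_LangSh
import Mathlib.Topology.JacobsonSpace

/-!
# A criterion for a constructible sheaf to be locally constant

`X` locally Noetherian, integral and normal, `F` an abelian sheaf with finite stalks.

* `NoPunct F`: a section of `F` over an etale `U` which vanishes at the points over the generic point of `X`
  is zero;
* `spMap_injective`: then all specialization maps are injective;
* `isFiniteLocallyConstant_of_card`: if moreover all stalks have the same cardinality, `F` is finite locally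
  constant;
* `card_stalk_of_closed`: for constructible `F` on a Jacobson scheme it is enough to know the cardinality of
  the stalks at closed points;
* `isLCValue_of_card`: the value group is determined by its cardinality if `F` is killed by a prime.
-/

set_option autoImplicit false
universe u

open CategoryTheory CategoryTheory.Limits AlgebraicGeometry Opposite Topology
open Groth.Agent.EtpbcA.Germ Groth.Agent.EtpbcA.FLC Groth.Agent.Sga4B.SpecLocConst
  Groth.Agent.Sga4B.SpecConstr Groth.Agent.Sga4B.NoethStrata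

namespace Groth.Agent.Sga4h.H920.LisseCrit

variable {X : Scheme.{u}}

/-- Vanishing of a germ depends only on the underlying point. -/
theorem germ_eq_zero_of_pt_eq (F : EtCoh.Ab X) {Ω Ω' : Type u} [Field Ω] [IsSepClosed Ω] [Field Ω']
    [IsSepClosed Ω'] {ξ : Spec (CommRingCat.of Ω) ⟶ X} {ξ' : Spec (CommRingCat.of Ω') ⟶ X} {U : X.Etale}
    (t : Fib ξ U) (t' : Fib ξ' U) (s : EtCoh.sect F U) (h : pt ξ t = pt ξ' t')
    (h0 : germ ξ F t s = 0) : germ ξ' F t' s = 0 := by
  rw [← map_zero (germ ξ F t)] at h0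
  obtain ⟨V, g, v, hv, e⟩ := (germ_eq_iff ξ F _ _ _).1 h0
  have h1 : g.left (pt ξ v) = pt ξ' t' := by
    rw [← pt_fmap, hv, h]
  obtain ⟨v', hv', -⟩ := exists_lift ξ' g t' _ h1
  rw [← map_zero (germ ξ' F t')]
  exact (germ_eq_iff ξ' F _ _ _).2 ⟨V, g, v', hv', e⟩

/-- A section all of whose germs vanish is zero. -/
theorem eq_zero_of_germ (F : EtCoh.Ab X) {U : X.Etale} (s : EtCoh.sect F U)
    (h : ∀ u : U.left, ∃ (Ω : Type u) (_ : Field Ω) (_ : IsSepClosed Ω) (ξ : Spec (CommRingCat.of Ω) ⟶ X)
      (t : Fib ξ U), pt ξ t = u ∧ germ ξ F t s = 0) : s = 0 := by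
  let S : Sieve U :=
    { arrows := fun V g => F.obj.map g.op s = 0
      downward_closed := fun {V W} g hg k => by
        change F.obj.map (k ≫ g).op s = 0
        rw [op_comp, F.obj.map_comp]
        change F.obj.map k.op (F.obj.map g.op s) = 0
        have hg' : F.obj.map g.op s = 0 := hg
        rw [hg', map_zero] }
  have hS : S ∈ X.smallEtaleTopology U := by
    rw [mem_iff]
    intro u
    obtain ⟨Ω, _, _, ξ, t, ht, h0⟩ := h u
    rw [← map_zero (germ ξ F t)] at h0
    obtain ⟨V, g, v, hv, e⟩ := (germ_eq_iff ξ F _ _ _).1 h0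
    refine ⟨V, g, ?_, pt ξ v, ?_⟩
    · change F.obj.map g.op s = 0
      rw [e, map_zero]
    · rw [← pt_fmap, hv, ht]
  have hsep := ((isSheaf_iff_isSheaf_of_type _ _).1
    ((sheafCompose X.smallEtaleTopology (forget AddCommGrpCat.{u + 1})).obj F).property).isSeparated S hS
  refine hsep (fun V g _ => (0 : EtCoh.sect F V)) s (0 : EtCoh.sect F U) ?_ ?_
  · intro V g hg
    exact hg
  · intro V g hg
    exact map_zero (F.obj.map g.op).hom

/-- Sections over etale `U` vanishing over the generic point of `X` are zero. -/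
def NoPunct [IrreducibleSpace X] (F : EtCoh.Ab X) : Prop :=
  ∀ (U : X.Etale) (s : EtCoh.sect F U),
    (∀ (Ω : Type u) [Field Ω] [IsSepClosed Ω] (ξ : Spec (CommRingCat.of Ω) ⟶ X) (t : Fib ξ U),
      ξ default = genericPoint X → germ ξ F t s = 0) → s = 0

/-- The generizations of a point whose local ring is a domain have a common generization. -/
theorem exists_generic_of_isDomain (U : Scheme.{u}) (x : U) (h : IsDomain (U.presheaf.stalk x)) :
    ∃ g : U, ∀ y : U, y ⤳ x → g ⤳ y := by
  let A := U.presheaf.stalk x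
  refine ⟨U.fromSpecStalk x (⊥ : PrimeSpectrum A), fun y hy => ?_⟩
  have : y ∈ Set.range (U.fromSpecStalk x) := by
    rw [Scheme.range_fromSpecStalk]
    exact hy
  obtain ⟨p, rfl⟩ := this
  have h1 : (⊥ : PrimeSpectrum A) ⤳ p := by
    rw [← PrimeSpectrum.le_iff_specializes]
    exact bot_le
  exact h1.map (U.fromSpecStalk x).continuous

/-- In a scheme etale over a normal integral locally Noetherian scheme `X`, every point has a neighbourhood
with exactly one point over the generic point of `X` . -/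
theorem exists_open_unique_generic [IsLocallyNoetherian X] [IrreducibleSpace X]
    (hX : ∀ x : X, IsDomain (X.presheaf.stalk x) ∧ IsIntegrallyClosed (X.presheaf.stalk x))
    (U : X.Etale) (x : U.left) :
    ∃ V : U.left.Opens, x ∈ V ∧ ∀ y ∈ V, ∀ y' ∈ V, U.hom y = genericPoint X →
      U.hom y' = genericPoint X → y = y' := by
  have hU := isLocallyNoetherian_etale U
  let f : U.left ⟶ X := U.hom
  have hf : Etale f := U.prop
  obtain ⟨V, hxV, hV⟩ := exists_open_common_generization U.left x
  obtain ⟨g, hg⟩ := exists_generic_of_isDomain U.left x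
    (Groth.Agent.Sga4B.EtaleDomain.isDomain_stalk_of_etale f x (hX _).1 (hX _).2)
  have key : ∀ y y' : U.left, y' ⤳ y → f y = genericPoint X → y' = y := by
    intro y y' h hy
    refine eq_of_specializes_of_etale f h ?_
    have h1 : f y' ⤳ genericPoint X := by
      rw [← hy]
      exact h.map f.continuous
    rw [hy]
    exact (h1.antisymm (genericPoint_specializes _)).eq
  refine ⟨V, hxV, fun y hy y' hy' h h' => ?_⟩
  obtain ⟨a, ha, ha'⟩ := hV y hy
  obtain ⟨b, hb, hb'⟩ := hV y' hy'
  have e1 : a = y := key _ _ ha h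
  have e2 : b = y' := key _ _ hb h'
  subst e1; subst e2
  exact (key _ _ (hg _ ha') h).symm.trans (key _ _ (hg _ hb') h')

/-- Without sections supported on closed points, specialization maps to the generic point are injective. -/
theorem spMap_injective_generic [IsLocallyNoetherian X] [IrreducibleSpace X]
    (hX : ∀ x : X, IsDomain (X.presheaf.stalk x) ∧ IsIntegrallyClosed (X.presheaf.stalk x))
    {F : EtCoh.Ab X} (hF : NoPunct F) {Ω Ω' : Type u} [Field Ω] [IsSepClosed Ω] [Field Ω'] [IsSepClosed Ω']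
    {ξ : Spec (CommRingCat.of Ω) ⟶ X} {ξ' : Spec (CommRingCat.of Ω') ⟶ X}
    (a : Scheme.pointSmallEtale ξ' ⟶ Scheme.pointSmallEtale ξ) (h : ξ' default = genericPoint X) :
    Function.Injective (spMap a F) := by
  rw [injective_iff_map_eq_zero]
  intro p hp
  obtain ⟨U, t, s, rfl⟩ := germ_surj ξ F p
  rw [spMap_germ] at hp
  obtain ⟨V, hxV, hV⟩ := exists_open_unique_generic hX U (pt ξ t)
  obtain ⟨v, hv, hv'⟩ := exists_lift ξ (restrictOpenHom U V) t (show (restrictOpen U V).left from
      (⟨pt ξ t, hxV⟩ : V)) rfl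
  have e0 : F.obj.map (restrictOpenHom U V).op s = 0 := by
    refine hF _ _ fun Ω'' _ _ ζ r hζ => ?_
    rw [germ_res]
    have e1 : a.hom.app U t = fmap ξ' (restrictOpenHom U V) (a.hom.app _ v) := by
      rw [← hv]
      exact congrArg (fun φ => φ v) (a.hom.naturality (restrictOpenHom U V))
    have e2 : pt ξ' (a.hom.app U t) ∈ V := by
      rw [e1]
      exact pt_restrictOpen_mem U V ξ' _
    refine germ_eq_zero_of_pt_eq F (a.hom.app U t) _ s ?_ hp
    refine hV _ e2 _ (pt_restrictOpen_mem U V ζ r) ?_ ?_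
    · exact (hom_pt ξ' _).trans h
    · exact (hom_pt ζ _).trans hζ
  rw [← hv, ← germ_res, e0, map_zero]

/-- Without sections supported on closed points, all specialization maps are injective. -/
theorem spMap_injective [IsLocallyNoetherian X] [IrreducibleSpace X]
    (hX : ∀ x : X, IsDomain (X.presheaf.stalk x) ∧ IsIntegrallyClosed (X.presheaf.stalk x))
    {F : EtCoh.Ab X} (hF : NoPunct F) {Ω Ω' : Type u} [Field Ω] [IsSepClosed Ω] [Field Ω'] [IsSepClosed Ω']
    {ξ : Spec (CommRingCat.of Ω) ⟶ X} {ξ' : Spec (CommRingCat.of Ω') ⟶ X}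
    (a : Scheme.pointSmallEtale ξ' ⟶ Scheme.pointSmallEtale ξ) :
    Function.Injective (spMap a F) := by
  obtain ⟨Ω'', _, _, ζ, hζ⟩ := exists_geomPt_aux X (genericPoint X)
  obtain ⟨b⟩ := Groth.Agent.Sga4B.SpecArrow.nonempty_pointHom ξ' ζ
    (by rw [hζ]; exact genericPoint_specializes _)
  have e : spMap (b ≫ a) F = (spMap b F).comp (spMap a F) := by
    ext p
    obtain ⟨U, t, s, rfl⟩ := germ_surj ξ F p
    rw [AddMonoidHom.comp_apply, spMap_germ, spMap_germ, spMap_germ]
    rfl
  have h := spMap_injective_generic hX hF (b ≫ a) hζ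
  rw [e] at h
  exact Function.Injective.of_comp (f := spMap b F) h

/-- If `F` has no sections supported on closed points and all stalks have the same finite cardinality then `F`
is finite locally constant. -/
theorem isFiniteLocallyConstant_of_card [IsLocallyNoetherian X] [IrreducibleSpace X]
    (hX : ∀ x : X, IsDomain (X.presheaf.stalk x) ∧ IsIntegrallyClosed (X.presheaf.stalk x))
    {F : EtCoh.Ab X} (hF : NoPunct F)
    (hfin : ∀ (Ω : Type u) [Field Ω] [IsSepClosed Ω] (ξ : Spec (CommRingCat.of Ω) ⟶ X),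
      Finite ((EtCoh.stalk ξ).obj F : Type (u + 1))) (N : ℕ)
    (hcard : ∀ (Ω : Type u) [Field Ω] [IsSepClosed Ω] (ξ : Spec (CommRingCat.of Ω) ⟶ X),
      Nat.card ((EtCoh.stalk ξ).obj F : Type (u + 1)) = N) : EtCoh.IsFiniteLocallyConstant F := by
  refine flc_of_spMap_bijective F hfin ?_
  intro Ω Ω' _ _ _ _ ξ ξ' a
  have h1 := hfin Ω ξ
  have h2 := hfin Ω' ξ'
  exact (Nat.bijective_iff_injective_and_card _).2 ⟨spMap_injective hX hF a,
    (hcard Ω ξ).trans (hcard Ω' ξ').symm⟩

/-- The cardinality of the stalks of a constructible sheaf on a Jacobson scheme may be checked at closed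
points. -/
theorem card_stalk_of_closed [IsLocallyNoetherian X] [JacobsonSpace X] (F : EtCoh.Ab X)
    (hfin : ∀ (Ω : Type u) [Field Ω] [IsSepClosed Ω] (ξ : Spec (CommRingCat.of Ω) ⟶ X),
      Finite ((EtCoh.stalk ξ).obj F : Type (u + 1)))
    (hF : EtPBC.IsConstructible F) (N : ℕ)
    (hcl : ∀ x : X, IsClosed ({x} : Set X) → ∃ (Ω : Type u) (_ : Field Ω) (_ : IsSepClosed Ω)
      (ξ : Spec (CommRingCat.of Ω) ⟶ X), ξ default = x ∧
        Nat.card ((EtCoh.stalk ξ).obj F : Type (u + 1)) = N)
    {Ω : Type u} [Field Ω] [IsSepClosed Ω] (ξ : Spec (CommRingCat.of Ω) ⟶ X) :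
    Nat.card ((EtCoh.stalk ξ).obj F : Type (u + 1)) = N := by
  by_contra hne
  let n := Nat.card ((EtCoh.stalk ξ).obj F : Type (u + 1))
  have hx : ξ default ∈ cardLocus F n := (mem_cardLocus_iff F hfin n ξ).2 rfl
  obtain ⟨V, hV, hVo, hVc⟩ := isLocallyConstructible_cardLocus F hfin hF n (ξ default)
  have hxV : ξ default ∈ V := mem_of_mem_nhds hV
  obtain ⟨O, hO, hxO, h⟩ := exists_open_inter_closure_subset hVc (x := (⟨_, hxV⟩ : V)) hx
  -- the locally closed set `O ∩ closure {x}`
  let Z : Set X := (Subtype.val '' O) ∩ closure {ξ default}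
  have hZ : IsLocallyClosed Z :=
    (hVo.isOpenMap_subtype_val _ hO).isLocallyClosed.inter isClosed_closure.isLocallyClosed
  have hZne : Z.Nonempty := ⟨ξ default, ⟨_, hxO, rfl⟩, subset_closure rfl⟩
  obtain ⟨y, hyZ, hyc⟩ := nonempty_inter_closedPoints hZne hZ
  obtain ⟨Ω', _, _, ξ', rfl, hN⟩ := hcl y hyc
  have hy : ξ' default ∈ cardLocus F n := by
    obtain ⟨⟨z, hz, hz'⟩, hcz⟩ := hyZ
    rw [← hz']
    refine h ⟨hz, ?_⟩
    rw [← specializes_iff_mem_closure]
    refine Topology.IsInducing.subtypeVal.specializes_iff.1 ?_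
    rw [specializes_iff_mem_closure]
    rw [hz']
    exact hcz
  rw [mem_cardLocus_iff F hfin] at hy
  exact hne (hy.symm.trans hN)

end Groth.Agent.Sga4h.H920.LisseCrit
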