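import Groth.Agent.Sga4h.H920.ZExtMap
import Groth.Agent.Sga4h.H920.ConeLES
import Groth.Agent.Sga4h.H920.ConeNat
import Groth.Agent.Etalg.LACoreB0
import Mathlib.Algebra.Category.Grp.Zero

/-!
# The exact sequence `H^q(X, F) → H^q(Y, F) → H^q(P, F) → H^{q+1}(X, F)`, abstract form
-/

set_option autoImplicit false
set_option maxHeartbeats 400000
universe v u₁ u₂ u₃

open CategoryTheory CategoryTheory.Limits CategoryTheory.Abelian Opposite

namespace Groth.Agent.Sga4h.H920.OnePtAbs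

open ZExt ConeLES Groth.Agent.EtpbcA.LAQ95 Groth.Agent.Sga4B.ExtCmp Groth.Agent.Etalg.LACoreB

variable {X : Type u₁} [Category.{v} X] [Abelian X]
  {Y : Type u₂} [Category.{v} Y] [Abelian Y]
  {R : Type u₃} [Category.{v} R] [Abelian R]
  (L : X ⥤ Y) [L.Additive]
  (G : Y ⥤ X) [G.Additive] (adj : L ⊣ G)
  (A : Y ⥤ R) [A.Additive]
  {P : X} {Q : Y} {P' : R} (z : Q ⟶ L.obj P) [IsIso z] (a : P' ⟶ A.obj Q)

/-- `Hom(P, G N) ≃ Hom(Q, N)`. -/
noncomputable def adjEquiv (N : Y) : (P ⟶ G.obj N) ≃+ (Q ⟶ N) where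
  toFun g := z ≫ L.map g ≫ adj.counit.app N
  invFun h := adj.unit.app P ≫ G.map (inv z ≫ h)
  left_inv g := by
    simp
  right_inv h := by
    change z ≫ L.map (adj.unit.app P ≫ G.map (inv z ≫ h)) ≫ adj.counit.app N = h
    have h1 : L.map (G.map (inv z ≫ h)) ≫ adj.counit.app N = adj.counit.app (L.obj P) ≫ inv z ≫ h :=
      adj.counit.naturality _
    rw [L.map_comp, Category.assoc, h1, adj.left_triangle_components_assoc, IsIso.hom_inv_id_assoc]
  map_add' g h := by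
    rw [L.map_add, Preadditive.add_comp, Preadditive.comp_add]

/-- `Hom(P, G -) ≅ Hom(Q, -)`. -/
noncomputable def adjIso : G ⋙ Γ P ≅ Γ Q :=
  NatIso.ofComponents (fun N => (adjEquiv L G adj z N).toAddCommGrpIso) (fun {N N'} f => by
    ext g
    change z ≫ L.map (g ≫ G.map f) ≫ adj.counit.app N' = (z ≫ L.map g ≫ adj.counit.app N) ≫ f
    simp)

/-- The same on complexes. -/
noncomputable def adjC (I : CochainComplex Y ℤ) : mc (Γ P) (mc G I) ≅ mc (Γ Q) I :=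
  (NatIso.mapHomologicalComplex (adjIso L G adj z) (ComplexShape.up ℤ)).app I

theorem adjC_f_apply (I : CochainComplex Y ℤ) (m : ℤ) (g : P ⟶ G.obj (I.X m)) :
    (adjC L G adj z I).hom.f m g = (z ≫ L.map g ≫ adj.counit.app (I.X m) : Q ⟶ I.X m) := rfl

theorem map_adjC (E : CochainComplex X ℤ) (I : CochainComplex Y ℤ) (i : mc L E ⟶ I) :
    ((Γ P).mapHomologicalComplex (ComplexShape.up ℤ)).map
      (unitC adj E ≫ (G.mapHomologicalComplex (ComplexShape.up ℤ)).map i) ≫ (adjC L G adj z I).hom =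
    plC L z E ≫ ((Γ Q).mapHomologicalComplex (ComplexShape.up ℤ)).map i := by
  ext m g
  change z ≫ L.map (g ≫ adj.unit.app (E.X m) ≫ G.map (i.f m)) ≫ adj.counit.app (I.X m) =
    (z ≫ L.map g) ≫ i.f m
  simp

section main

variable [HasExt.{v} X] [HasExt.{v} Y] [HasExt.{v} R]
  [PreservesFiniteLimits L] [PreservesFiniteColimits L]
  [PreservesFiniteLimits A] [PreservesFiniteColimits A]

theorem main
    (S : X ⥤ AddCommGrpCat.{v}) [S.Additive] (η : Γ P ⟶ S) (ρ : G ⋙ S ≅ A ⋙ Γ P')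
    (hηρ : ∀ (N : Y) (g : P ⟶ G.obj N), ρ.hom.app N (η.app (G.obj N) g) =
      (a ≫ A.map (z ≫ L.map g ≫ adj.counit.app N) : P' ⟶ A.obj N))
    (E : CochainComplex X ℤ) [E.IsStrictlyGE 0] (hE : ∀ n : ℕ, E.ExactAt ((n + 1 : ℕ) : ℤ))
    (acE : ∀ (k m : ℕ), 0 < m → Subsingleton (Ext.{v} P (E.X (k : ℤ)) m))
    (I : CochainComplex Y ℤ) [I.IsStrictlyGE 0] (hI : ∀ n : ℕ, I.ExactAt ((n + 1 : ℕ) : ℤ))
    (acI : ∀ (k m : ℕ), 0 < m → Subsingleton (Ext.{v} Q (I.X (k : ℤ)) m))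
    (acA : ∀ (k m : ℕ), 0 < m → Subsingleton (Ext.{v} P' (A.obj (I.X (k : ℤ))) m))
    (i : mc L E ⟶ I) (hi : IsIso (HomologicalComplex.cyclesMap i ((0 : ℕ) : ℤ)))
    (hcone : QuasiIso ((NatTrans.mapHomologicalComplex η (ComplexShape.up ℤ)).app
      (CochainComplex.mappingCone
        (unitC adj E ≫ (G.mapHomologicalComplex (ComplexShape.up ℤ)).map i))))
    (hSE : (mc S E).Acyclic) (F : X) (eF : F ≅ E.cycles ((0 : ℕ) : ℤ)) :
    ∃ δ : ∀ n : ℕ, Ext.{v} P' (A.obj (L.obj F)) n →+ Ext.{v} P F (n + 1),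
      (∀ (n : ℕ) (y : Ext.{v} Q (L.obj F) n), cmp A a (L.obj F) n y = 0 ↔
        ∃ x : Ext.{v} P F n, cmp L z F n x = y) ∧
      (∀ (n : ℕ) (y : Ext.{v} P' (A.obj (L.obj F)) n), δ n y = 0 ↔
        ∃ x : Ext.{v} Q (L.obj F) n, cmp A a (L.obj F) n x = y) ∧
      (∀ (n : ℕ) (y : Ext.{v} P F (n + 1)), cmp L z F (n + 1) y = 0 ↔ ∃ x, δ n x = y) ∧
      Function.Injective (cmp L z F 0) := by
  -- notation
  let Φ := unitC adj E ≫ (G.mapHomologicalComplex (ComplexShape.up ℤ)).map i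
  have hLE : ∀ n : ℕ, (mc L E).ExactAt ((n + 1 : ℕ) : ℤ) := fun n => exactAt_mc L E _ (hE n)
  have hAI : ∀ n : ℕ, (mc A I).ExactAt ((n + 1 : ℕ) : ℤ) := fun n => exactAt_mc A I _ (hI n)
  -- the isomorphism `L F ≅ Z^0 I`
  let u : L.obj F ≅ I.cycles ((0 : ℕ) : ℤ) :=
    L.mapIso eF ≪≫ kap L E ((0 : ℕ) : ℤ) ≪≫ asIso (HomologicalComplex.cyclesMap i ((0 : ℕ) : ℤ))
  let u' : A.obj (L.obj F) ≅ (mc A I).cycles ((0 : ℕ) : ℤ) := A.mapIso u ≪≫ kap A I ((0 : ℕ) : ℤ)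
  -- comparison isomorphisms
  let thE : ∀ n : ℕ, (mc (Γ P) E).homology (n : ℤ) ≅ AddCommGrpCat.of (Ext.{v} P (E.cycles ((0 : ℕ) : ℤ)) n) :=
    fun n => @asIso _ _ _ _ (th P E hE n) ((ConcreteCategory.isIso_iff_bijective _).2 (th_bijective P E hE acE n))
  let thI : ∀ n : ℕ, (mc (Γ Q) I).homology (n : ℤ) ≅ AddCommGrpCat.of (Ext.{v} Q (I.cycles ((0 : ℕ) : ℤ)) n) :=
    fun n => @asIso _ _ _ _ (th Q I hI n) ((ConcreteCategory.isIso_iff_bijective _).2 (th_bijective Q I hI acI n))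
  let thA : ∀ n : ℕ, (mc (Γ P') (mc A I)).homology (n : ℤ) ≅
      AddCommGrpCat.of (Ext.{v} P' ((mc A I).cycles ((0 : ℕ) : ℤ)) n) :=
    fun n => @asIso _ _ _ _ (th P' (mc A I) hAI n)
      ((ConcreteCategory.isIso_iff_bijective _).2 (th_bijective P' (mc A I) hAI acA n))
  let eE : ∀ n : ℕ, (mc (Γ P) E).homology (n : ℤ) ≅ AddCommGrpCat.of (Ext.{v} P F n) :=
    fun n => thE n ≪≫ ((extFunctorObj P n).mapIso eF).symm
  let eB : ∀ n : ℕ, (mc (Γ P) (mc G I)).homology (n : ℤ) ≅ AddCommGrpCat.of (Ext.{v} Q (L.obj F) n) :=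
    fun n => (HomologicalComplex.homologyFunctor _ _ (n : ℤ)).mapIso (adjC L G adj z I) ≪≫ thI n ≪≫
      ((extFunctorObj Q n).mapIso u).symm
  let ρC : mc S (mc G I) ≅ mc (Γ P') (mc A I) :=
    (NatIso.mapHomologicalComplex ρ (ComplexShape.up ℤ)).app I
  let eB' : ∀ n : ℕ, (mc S (mc G I)).homology (n : ℤ) ≅
      AddCommGrpCat.of (Ext.{v} P' (A.obj (L.obj F)) n) :=
    fun n => (HomologicalComplex.homologyFunctor _ _ (n : ℤ)).mapIso ρC ≪≫ thA n ≪≫
      ((extFunctorObj P' n).mapIso u').symm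
  -- first square
  have key1 : ∀ (n : ℕ) (x : (mc (Γ P) E).homology (n : ℤ)),
      th Q I hI n (HomologicalComplex.homologyMap (adjC L G adj z I).hom (n : ℤ)
        (HomologicalComplex.homologyMap (((Γ P).mapHomologicalComplex (ComplexShape.up ℤ)).map Φ) (n : ℤ) x)) =
      (cmp L z _ n (th P E hE n x : Ext.{v} P _ n)).comp (Ext.mk₀ ((kap L E ((0 : ℕ) : ℤ)).hom ≫
        HomologicalComplex.cyclesMap i ((0 : ℕ) : ℤ))) (add_zero n) := by
    intro n x
    have h1 := ConcreteCategory.congr_hom (congrArg (fun t => HomologicalComplex.homologyMap t (n : ℤ))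
      (map_adjC L G adj z E I i)) x
    rw [HomologicalComplex.homologyMap_comp, HomologicalComplex.homologyMap_comp] at h1
    have h2 := congrArg (th Q I hI n) h1
    refine Eq.trans h2 ?_
    refine Eq.trans (th_naturality Q (mc L E) hLE hI i n (HomologicalComplex.homologyMap (plC L z E) (n : ℤ) x)) ?_
    rw [th_map L z E hE hLE n x, Ext.comp_assoc_of_third_deg_zero, Ext.mk₀_comp_mk₀]
  have sq1 : ∀ n : ℕ, HomologicalComplex.homologyMap
      (((Γ P).mapHomologicalComplex (ComplexShape.up ℤ)).map Φ) (n : ℤ) ≫ (eB n).hom =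
      (eE n).hom ≫ AddCommGrpCat.ofHom (cmp L z F n) := by
    intro n
    ext x
    have hu : ((kap L E ((0 : ℕ) : ℤ)).hom ≫ HomologicalComplex.cyclesMap i ((0 : ℕ) : ℤ)) ≫ u.inv =
        L.map eF.inv := by
      rw [Iso.comp_inv_eq]
      change _ = L.map eF.inv ≫ L.map eF.hom ≫ (kap L E ((0 : ℕ) : ℤ)).hom ≫
        HomologicalComplex.cyclesMap i ((0 : ℕ) : ℤ)
      rw [← L.map_comp_assoc, Iso.inv_hom_id, L.map_id, Category.id_comp]
    change (th Q I hI n (HomologicalComplex.homologyMap (adjC L G adj z I).hom (n : ℤ)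
      (HomologicalComplex.homologyMap (((Γ P).mapHomologicalComplex (ComplexShape.up ℤ)).map Φ)
        (n : ℤ) x)) : Ext.{v} Q _ n).comp (Ext.mk₀ u.inv) (add_zero n) =
      cmp L z F n ((th P E hE n x : Ext.{v} P _ n).comp (Ext.mk₀ eF.inv) (add_zero n))
    rw [key1, cmp_mk₀, Ext.comp_assoc_of_third_deg_zero, Ext.mk₀_comp_mk₀, hu]
  -- second square
  let ηB := (NatTrans.mapHomologicalComplex η (ComplexShape.up ℤ)).app (mc G I)
  have hsq : ηB ≫ ρC.hom = (adjC L G adj z I).hom ≫ plC A a I := by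
    ext m g
    exact hηρ (I.X m) g
  have key2 : ∀ (n : ℕ) (x : (mc (Γ P) (mc G I)).homology (n : ℤ)),
      th P' (mc A I) hAI n (HomologicalComplex.homologyMap ρC.hom (n : ℤ)
        (HomologicalComplex.homologyMap ηB (n : ℤ) x)) =
      (cmp A a _ n (th Q I hI n (HomologicalComplex.homologyMap (adjC L G adj z I).hom (n : ℤ) x) :
        Ext.{v} Q _ n)).comp (Ext.mk₀ (kap A I ((0 : ℕ) : ℤ)).hom) (add_zero n) := by
    intro n x
    have h1 := ConcreteCategory.congr_hom (congrArg (fun t => HomologicalComplex.homologyMap t (n : ℤ))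
      hsq) x
    rw [HomologicalComplex.homologyMap_comp, HomologicalComplex.homologyMap_comp] at h1
    have h2 := congrArg (th P' (mc A I) hAI n) h1
    refine Eq.trans h2 ?_
    exact th_map A a I hI hAI n _
  have sq2 : ∀ n : ℕ, HomologicalComplex.homologyMap ηB (n : ℤ) ≫ (eB' n).hom =
      (eB n).hom ≫ AddCommGrpCat.ofHom (cmp A a (L.obj F) n) := by
    intro n
    ext x
    have hu : (kap A I ((0 : ℕ) : ℤ)).hom ≫ u'.inv = A.map u.inv := by
      rw [Iso.comp_inv_eq]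
      change _ = A.map u.inv ≫ A.map u.hom ≫ (kap A I ((0 : ℕ) : ℤ)).hom
      rw [← A.map_comp_assoc, Iso.inv_hom_id, A.map_id, Category.id_comp]
    change (th P' (mc A I) hAI n (HomologicalComplex.homologyMap ρC.hom (n : ℤ)
        (HomologicalComplex.homologyMap ηB (n : ℤ) x)) : Ext.{v} P' _ n).comp (Ext.mk₀ u'.inv) (add_zero n) =
      cmp A a (L.obj F) n ((th Q I hI n (HomologicalComplex.homologyMap (adjC L G adj z I).hom (n : ℤ) x) :
        Ext.{v} Q _ n).comp (Ext.mk₀ u.inv) (add_zero n))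
    rw [key2, cmp_mk₀, Ext.comp_assoc_of_third_deg_zero, Ext.mk₀_comp_mk₀, hu]
  -- the long exact sequence
  obtain ⟨δ, h1, h2, h3⟩ := les (((Γ P).mapHomologicalComplex (ComplexShape.up ℤ)).map Φ)
    ((S.mapHomologicalComplex (ComplexShape.up ℤ)).map Φ)
    ((NatTrans.mapHomologicalComplex η (ComplexShape.up ℤ)).app E) ηB (ConeNat.comm η Φ)
    (ConeNat.quasiIso_map η Φ hcone) hSE
  let δ' : ∀ n : ℕ, AddCommGrpCat.of (Ext.{v} P' (A.obj (L.obj F)) n) ⟶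
    AddCommGrpCat.of (Ext.{v} P F (n + 1)) := fun n =>
      (eB' n).inv ≫ δ (n : ℤ) ((n + 1 : ℕ) : ℤ) (cast_succ n) ≫ (eE (n + 1)).hom
  refine ⟨fun n => (δ' n).hom, fun n => ?_, fun n => ?_, fun n => ?_, ?_⟩
  · exact (ex_iff _ _).1 ((h1 (n : ℤ)).of_iso (eE n) (eB n) (eB' n) (sq1 n) (sq2 n))
  · refine (ex_iff _ _).1 ((h2 (n : ℤ) ((n + 1 : ℕ) : ℤ) (cast_succ n)).of_iso (eB n) (eB' n)
      (eE (n + 1)) (sq2 n) ?_)
    exact (Iso.hom_inv_id_assoc (eB' n) _).symm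
  · refine (ex_iff _ _).1 ((h3 (n : ℤ) ((n + 1 : ℕ) : ℤ) (cast_succ n)).of_iso (eB' n)
      (eE (n + 1)) (eB (n + 1)) ?_ (sq1 (n + 1)))
    exact (Iso.hom_inv_id_assoc (eB' n) _).symm
  · have h4 := (h3 (-1) ((0 : ℕ) : ℤ) (by simp)).of_iso (Iso.refl _) (eE 0) (eB 0)
      (Iso.hom_inv_id_assoc (Iso.refl _) _).symm (sq1 0)
    rw [ex_iff] at h4
    have hz : IsZero ((mc S (mc G I)).homology (-1)) := by
      refine (HomologicalComplex.ExactAt.of_isZero ?_).isZero_homology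
      exact S.map_isZero (G.map_isZero (I.isZero_of_isStrictlyGE 0 (-1) (by norm_num)))
    rw [injective_iff_map_eq_zero]
    intro x hx
    obtain ⟨y, hy⟩ := (h4 x).1 hx
    have hy0 : y = 0 := (AddCommGrpCat.isZero_iff_subsingleton.1 hz).elim _ _
    rw [← hy, hy0]
    exact map_zero _

end main

end Groth.Agent.Sga4h.H920.OnePtAbs
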