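import Groth.Agent.Sga4h.H920.SecNat
import Groth.Agent.EtpbcB.ExtRightDerived
import Groth.Agent.Cohder.RDPlusAcyc

/-!
# Pullback of global sections on complexes of sheaves

`Qi f K`: `Γ(Y, K) ⟶ Γ(X, f⁻¹ K)` is a quasi-isomorphism.

* `qi_of_isIso`: if it is an isomorphism in every degree;
* `qi_comp_iff`: composition of morphisms;
* `isAcyc_G`: sheaves without higher cohomology are acyclic for `G X = Hom(ℤ, -)`;
* `psN_eq`: the map `Γ(Y, M) ⟶ Γ(X, f⁻¹ M)` is the composition of `Γ(Y, unit)` and `Γ(Y, f_* N) ≅ Γ(X, N)`.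
-/

set_option autoImplicit false
set_option maxHeartbeats 400000
universe u

open CategoryTheory CategoryTheory.Limits AlgebraicGeometry Opposite

namespace Groth.Agent.Sga4h.H920.QiComp

open EtCoh Groth.Agent.EtpbcB Groth.Agent.EtpbcB.BCCalc Groth.Agent.EtpbcB.BCIso
  Groth.Agent.EtpbcB.HRel Groth.Agent.Etcore.PullCoh
  ZExt OnePtAbs KapConst SecNat Groth.Agent.Cohder.RDAcyc

variable {X Y Z : Scheme.{u}}

/-- `Γ(Y, K) ⟶ Γ(X, f⁻¹ K)` is a quasi-isomorphism. -/
def Qi (f : X ⟶ Y) (K : CochainComplex (Ab Y) ℤ) : Prop :=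
  QuasiIso ((NatTrans.mapHomologicalComplex (psN f) (ComplexShape.up ℤ)).app K)

theorem qi_of_isIso (f : X ⟶ Y) (K : CochainComplex (Ab Y) ℤ)
    (h : ∀ m, IsIso ((psN f).app (K.X m))) : Qi f K := by
  have h1 : ∀ m, IsIso (((NatTrans.mapHomologicalComplex (psN f) (ComplexShape.up ℤ)).app K).f m) := h
  have h2 : IsIso ((NatTrans.mapHomologicalComplex (psN f) (ComplexShape.up ℤ)).app K) :=
    HomologicalComplex.Hom.isIso_of_components _
  unfold Qi
  infer_instance

theorem ps_comp (f : X ⟶ Y) (g : Y ⟶ Z) (h : X ⟶ Z) (w : f ≫ g = h) {M : Ab Z} (s : const Z ℤ ⟶ M) :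
    ps f (ps g s) ≫ (theta f g h w).hom.app M = ps h s := by
  have h1 : (pull f).map ((pull g).map s) ≫ (theta f g h w).hom.app M =
    (theta f g h w).hom.app (const Z ℤ) ≫ (pull h).map s := (theta f g h w).hom.naturality s
  unfold ps
  rw [(pull f).map_comp, Category.assoc, Category.assoc, h1, ← Category.assoc, ← Category.assoc,
    Category.assoc (EtCore.pullConst f ℤ).inv, pc_comp]

/-- The comparison of the two targets. -/
noncomputable def thC (f : X ⟶ Y) (g : Y ⟶ Z) (h : X ⟶ Z) (w : f ≫ g = h)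
    (K : CochainComplex (Ab Z) ℤ) :
    ((pull f ⋙ G X).mapHomologicalComplex (ComplexShape.up ℤ)).obj
      (((pull g).mapHomologicalComplex (ComplexShape.up ℤ)).obj K) ≅
    ((pull h ⋙ G X).mapHomologicalComplex (ComplexShape.up ℤ)).obj K :=
  HomologicalComplex.Hom.isoOfComponents (fun m => (G X).mapIso ((theta f g h w).app (K.X m)))
    (fun i j _ => by
      change (G X).map _ ≫ (G X).map _ = (G X).map _ ≫ (G X).map _
      rw [← (G X).map_comp, ← (G X).map_comp]
      congr 1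
      exact ((theta f g h w).hom.naturality (K.d i j)).symm)

theorem psN_comp_complex (f : X ⟶ Y) (g : Y ⟶ Z) (h : X ⟶ Z) (w : f ≫ g = h)
    (K : CochainComplex (Ab Z) ℤ) :
    (NatTrans.mapHomologicalComplex (psN g) (ComplexShape.up ℤ)).app K ≫
      (NatTrans.mapHomologicalComplex (psN f) (ComplexShape.up ℤ)).app
        (((pull g).mapHomologicalComplex (ComplexShape.up ℤ)).obj K) ≫ (thC f g h w K).hom =
      (NatTrans.mapHomologicalComplex (psN h) (ComplexShape.up ℤ)).app K := by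
  ext m s
  exact ps_comp f g h w s

theorem qi_comp_iff (f : X ⟶ Y) (g : Y ⟶ Z) (h : X ⟶ Z) (w : f ≫ g = h)
    (K : CochainComplex (Ab Z) ℤ) (hg : Qi g K) :
    Qi h K ↔ Qi f (((pull g).mapHomologicalComplex (ComplexShape.up ℤ)).obj K) := by
  unfold Qi at *
  rw [← psN_comp_complex f g h w K]
  rw [quasiIso_iff_comp_left, quasiIso_iff_comp_right]
  exact Iff.rfl

theorem isAcyc_G (M : Ab X) (h : ∀ q : ℕ, 0 < q → Subsingleton (EtCoh.H X M q)) :
    IsAcyc (G X) M := by
  intro q hq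
  obtain ⟨n, rfl⟩ : ∃ n, q = n + 1 := ⟨q - 1, by omega⟩
  obtain ⟨e⟩ := ExtRightDerived.ext_rightDerived (const X ℤ) (G X) (fun Y => AddEquiv.refl _)
    (fun f x => rfl) M n
  have := h (n + 1) n.succ_pos
  have h2 : Subsingleton (((G X).rightDerived (n + 1)).obj M) := e.symm.toEquiv.subsingleton
  exact AddCommGrpCat.isZero_of_subsingleton _

theorem psN_eq (f : X ⟶ Y) (M : Ab Y) :
    (psN f).app M = (G Y).map ((pullPushAdj f).unit.app M) ≫ (paI f).hom.app ((pull f).obj M) := by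
  ext s
  change ps f s = pa f (s ≫ (pullPushAdj f).unit.app M)
  unfold ps pa
  rw [(pull f).map_comp, Category.assoc]
  have := (pullPushAdj f).left_triangle_components M
  exact (congrArg (fun r => (EtCore.pullConst f ℤ).inv ≫ (pull f).map s ≫ r) this.symm).symm ▸ by
    simp

end Groth.Agent.Sga4h.H920.QiComp
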