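import Groth.Agent.Sga4h.H920.OnePtAbs
import Groth.Agent.EtpbcB.NKill
import Groth.Agent.EtpbcA.LAQ95
import Mathlib.Algebra.Homology.SingleHomology

/-!
# Resolutions as complexes in degrees `≥ 0`
-/

set_option autoImplicit false
set_option maxHeartbeats 400000
universe v u v' u'

open CategoryTheory CategoryTheory.Limits Opposite

namespace Groth.Agent.Sga4h.H920.Resol

open Groth.Agent.EtpbcB.NKill

variable {C : Type u} [Category.{v} C] [Abelian C]

theorem killed_biprod {n : ℕ} {A B : C} (hA : Killed n A) (hB : Killed n B) : Killed n (A ⊞ B) := by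
  unfold Killed at *
  apply biprod.hom_ext
  · rw [nsmul_id_comp, zero_comp, ← comp_nsmul_id, hA, comp_zero]
  · rw [nsmul_id_comp, zero_comp, ← comp_nsmul_id, hB, comp_zero]

theorem nInj_biprod {n : ℕ} {A B : C} (hA : NInj n A) (hB : NInj n B) : NInj n (A ⊞ B) := by
  intro G hG a G' m hG' hm
  obtain ⟨b₁, h₁⟩ := hA G hG (a ≫ biprod.fst) m hG' hm
  obtain ⟨b₂, h₂⟩ := hB G hG (a ≫ biprod.snd) m hG' hm
  refine ⟨biprod.lift b₁ b₂, ?_⟩
  apply biprod.hom_ext
  · rw [Category.assoc, biprod.lift_fst, h₁]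
  · rw [Category.assoc, biprod.lift_snd, h₂]

theorem nInj_of_iso {n : ℕ} {A B : C} (e : A ≅ B) (hA : NInj n A) : NInj n B :=
  nInj_of_retract e.inv e.hom e.inv_hom_id hA

theorem exactAt_succ (F : C) (E : CochainComplex C ℤ)
    (a : (HomologicalComplex.single C (ComplexShape.up ℤ) 0).obj F ⟶ E) [QuasiIso a] (n : ℕ) :
    E.ExactAt ((n + 1 : ℕ) : ℤ) :=
  (exactAt_iff_of_quasiIsoAt a _).1 (HomologicalComplex.exactAt_single_obj _ _ _ _ (by
    push_cast
    omega))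

theorem exactAt_ne (F : C) (E : CochainComplex C ℤ)
    (a : (HomologicalComplex.single C (ComplexShape.up ℤ) 0).obj F ⟶ E) [QuasiIso a] (m : ℤ)
    (hm : m ≠ 0) : E.ExactAt m :=
  (exactAt_iff_of_quasiIsoAt a _).1 (HomologicalComplex.exactAt_single_obj _ _ _ _ hm)

theorem isIso_homologyπ (E : CochainComplex C ℤ) [E.IsStrictlyGE 0] : IsIso (E.homologyπ ((0 : ℕ) : ℤ)) :=
  E.isIso_homologyπ (-1) ((0 : ℕ) : ℤ) (by simp) ((E.isZero_of_isStrictlyGE 0 (-1) (by norm_num)).eq_of_src _ _)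

theorem isIso_cyclesMap {K I : CochainComplex C ℤ} [K.IsStrictlyGE 0] [I.IsStrictlyGE 0] (i : K ⟶ I)
    [QuasiIso i] : IsIso (HomologicalComplex.cyclesMap i ((0 : ℕ) : ℤ)) := by
  have h1 := isIso_homologyπ K
  have h2 := isIso_homologyπ I
  have h3 : HomologicalComplex.cyclesMap i ((0 : ℕ) : ℤ) = K.homologyπ ((0 : ℕ) : ℤ) ≫
      HomologicalComplex.homologyMap i ((0 : ℕ) : ℤ) ≫ inv (I.homologyπ ((0 : ℕ) : ℤ)) := by
    rw [← Category.assoc, IsIso.eq_comp_inv]
    exact (HomologicalComplex.homologyπ_naturality i _).symm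
  rw [h3]
  infer_instance

/-- `F ≅ Z^0 E`. -/
noncomputable def isoCycles (F : C) (E : CochainComplex C ℤ) [E.IsStrictlyGE 0]
    (a : (HomologicalComplex.single C (ComplexShape.up ℤ) 0).obj F ⟶ E) [QuasiIso a] :
    F ≅ E.cycles ((0 : ℕ) : ℤ) :=
  (HomologicalComplex.singleObjHomologySelfIso (ComplexShape.up ℤ) 0 F).symm ≪≫
    (@asIso _ _ _ _ (HomologicalComplex.homologyMap a 0) inferInstance) ≪≫
    (@asIso _ _ _ _ (E.homologyπ ((0 : ℕ) : ℤ)) (isIso_homologyπ E)).symm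

end Groth.Agent.Sga4h.H920.Resol
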