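import Groth.Agent.Sga4h.H920.OnePtAbs
import Groth.Agent.Sga4h.H920.KapConst
import Groth.Agent.EtpbcB.GammaRpush

/-!
# Natural transformations between global section functors `Hom(ℤ, -)`
-/

set_option autoImplicit false
set_option maxHeartbeats 400000
universe u

open CategoryTheory CategoryTheory.Limits AlgebraicGeometry Opposite

namespace Groth.Agent.Sga4h.H920.SecNat

open EtCoh Groth.Agent.EtpbcB Groth.Agent.EtpbcB.BCCalc Groth.Agent.EtpbcB.BCIso ZExt OnePtAbs KapConst

variable {X Y : Scheme.{u}}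

/-- `Hom(ℤ, -)`. -/
noncomputable abbrev G (X : Scheme.{u}) : Ab X ⥤ AddCommGrpCat.{u + 1} := Γ (const X ℤ)

/-- Pullback of sections as a natural transformation. -/
noncomputable def psN (f : X ⟶ Y) : G Y ⟶ pull f ⋙ G X where
  app M := AddCommGrpCat.ofHom (pl (pull f) (EtCore.pullConst f ℤ).inv M)
  naturality M N t := by
    ext s
    change (EtCore.pullConst f ℤ).inv ≫ (pull f).map (s ≫ t) =
      ((EtCore.pullConst f ℤ).inv ≫ (pull f).map s) ≫ (pull f).map t
    rw [(pull f).map_comp, Category.assoc]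

theorem psN_app (f : X ⟶ Y) (M : Ab Y) (s : const Y ℤ ⟶ M) : (psN f).app M s = ps f s := rfl

/-- `Hom(ℤ, f_* -) ≅ Hom(ℤ, -)`. -/
noncomputable def paI (f : X ⟶ Y) : push f ⋙ G Y ≅ G X :=
  adjIso (pull f) (push f) (pullPushAdj f) (EtCore.pullConst f ℤ).inv

theorem paI_hom_app (f : X ⟶ Y) (N : Ab X) (s : const Y ℤ ⟶ (push f).obj N) :
    (paI f).hom.app N s = pa f s := rfl

theorem pa_comp (f : X ⟶ Y) {N N' : Ab X} (s : const Y ℤ ⟶ (push f).obj N) (ψ : N ⟶ N') :
    pa f (s ≫ (push f).map ψ) = pa f s ≫ ψ := by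
  have h1 : (pull f).map ((push f).map ψ) ≫ (pullPushAdj f).counit.app N' =
    (pullPushAdj f).counit.app N ≫ ψ := (pullPushAdj f).counit.naturality ψ
  unfold pa
  rw [(pull f).map_comp, Category.assoc, Category.assoc, Category.assoc, h1]

/-- bijectivity on global sections -/
theorem bijAt_top_iff {M N : Ab X} (φ : M ⟶ N) :
    BijAt φ (top X) ↔ Function.Bijective (fun s : const X ℤ ⟶ M => s ≫ φ) := by
  have h : ∀ x : (SepClosedPoint.Γtop X).obj M, GammaRpush.gammaAddEquiv X N
      ((SepClosedPoint.Γtop X).map φ x) = GammaRpush.gammaAddEquiv X M x ≫ φ :=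
    fun x => GammaRpush.gammaAddEquiv_naturality X φ x
  have h1 : (fun s : const X ℤ ⟶ M => s ≫ φ) ∘ (GammaRpush.gammaAddEquiv X M) =
      (GammaRpush.gammaAddEquiv X N) ∘ (φ.hom.app (op (top X))) := by
    funext x
    exact (h x).symm
  constructor
  · intro hφ
    have h2 : Function.Bijective ((GammaRpush.gammaAddEquiv X N) ∘ (φ.hom.app (op (top X)))) :=
      (GammaRpush.gammaAddEquiv X N).bijective.comp hφ
    rw [← h1] at h2
    exact (Function.Bijective.of_comp_iff _ (GammaRpush.gammaAddEquiv X M).bijective).1 h2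
  · intro hφ
    have h2 : Function.Bijective ((fun s : const X ℤ ⟶ M => s ≫ φ) ∘ (GammaRpush.gammaAddEquiv X M)) :=
      hφ.comp (GammaRpush.gammaAddEquiv X M).bijective
    rw [h1] at h2
    exact (Function.Bijective.of_comp_iff' (GammaRpush.gammaAddEquiv X N).bijective _).1 h2

section square

variable {X' Y' : Scheme.{u}} {f : X ⟶ Y} {g : Y' ⟶ Y} {f' : X' ⟶ Y'} {g' : X' ⟶ X}
  (w : g' ≫ f = f' ≫ g)

/-- Base change on global sections. -/
noncomputable def rho (h : ∀ N : Ab X, BijAt (baseChange0 f g f' g' w N) (top Y')) :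
    push f ⋙ (pull g ⋙ G Y') ≅ pull g' ⋙ G X' :=
  NatIso.ofComponents (fun N => (@asIso _ _ _ _ ((G Y').map (baseChange0 f g f' g' w N))
    ((ConcreteCategory.isIso_iff_bijective _).2 ((bijAt_top_iff _).1 (h N)))) ≪≫
      (paI f').app ((pull g').obj N)) (fun {N N'} t => by
    ext s
    change pa f' ((s ≫ (pull g).map ((push f).map t)) ≫ baseChange0 f g f' g' w N') =
      pa f' (s ≫ baseChange0 f g f' g' w N) ≫ (pull g').map t
    have hbc : (pull g).map ((push f).map t) ≫ baseChange0 f g f' g' w N' =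
      baseChange0 f g f' g' w N ≫ (push f').map ((pull g').map t) :=
      (bcNat w).naturality t
    rw [Category.assoc, hbc, ← Category.assoc, pa_comp])

theorem rho_hom_app (h : ∀ N : Ab X, BijAt (baseChange0 f g f' g' w N) (top Y')) (N : Ab X)
    (s : const Y' ℤ ⟶ (pull g).obj ((push f).obj N)) :
    (rho w h).hom.app N s = pa f' (s ≫ baseChange0 f g f' g' w N) := rfl

theorem rho_psN (h : ∀ N : Ab X, BijAt (baseChange0 f g f' g' w N) (top Y')) (N : Ab X)
    (s : const Y ℤ ⟶ (push f).obj N) :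
    (rho w h).hom.app N ((psN g).app ((push f).obj N) s) = ps g' (pa f s) :=
  baseChange0_adj w N s

end square

end Groth.Agent.Sga4h.H920.SecNat
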