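import Groth.Agent.EtpbcA.LAQ95
import Groth.Agent.Sga4B.ExtCmp
import Mathlib.Algebra.Homology.DerivedCategory.Ext.ExactSequences
import Mathlib.Algebra.Homology.ShortComplex.HomologicalComplex
import Mathlib.Algebra.Homology.ShortComplex.ExactFunctor
import Mathlib.CategoryTheory.Preadditive.Yoneda.Limits

/-!
# `Ext^n(P, Z^0 K)` computed by an acyclic resolution `K` indexed by `ℤ`

* `E K hK n : Ext (Z^n) (Z^0) n`, the iterated Yoneda class;
* `th K P n : H^n(Hom(P, K)) ⟶ Ext^n(P, Z^0 K)`, bijective if the `K^m` are acyclic for `Ext P -`;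
* naturality in `K` and compatibility with exact functors.
-/

set_option autoImplicit false
set_option maxHeartbeats 400000
universe w v u v' u'

open CategoryTheory CategoryTheory.Limits CategoryTheory.Abelian Opposite

namespace Groth.Agent.Sga4h.H920.ZExt

open Groth.Agent.EtpbcA.LAQ95

variable {A : Type u} [Category.{v} A] [Abelian A]

/-- The short complex `Z^n → K^n → Z^{n+1}`. -/
noncomputable abbrev cyc (K : CochainComplex A ℤ) (n m : ℤ) : ShortComplex A :=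
  ShortComplex.mk (K.iCycles n) (K.toCycles n m) (by
    rw [← cancel_mono (K.iCycles m)]
    simp)

/-- Naturality of `cyc`. -/
noncomputable abbrev cycMap {K L : CochainComplex A ℤ} (f : K ⟶ L) (n m : ℤ) : cyc K n m ⟶ cyc L n m where
  τ₁ := HomologicalComplex.cyclesMap f n
  τ₂ := f.f n
  τ₃ := HomologicalComplex.cyclesMap f m
  comm₁₂ := by simp
  comm₂₃ := by
    rw [← cancel_mono (L.iCycles m)]
    simp

theorem epi_toCycles (K : CochainComplex A ℤ) (n m : ℤ) (hnm : n + 1 = m) (h : K.ExactAt m) :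
    Epi (K.toCycles n m) := by
  have h1 := (K.exactAt_iff' n m (m + 1) (by simp [← hnm]) (by simp)).1 h
  have h2 := h1.epi_toCycles
  rw [← K.toCycles_cyclesIsoSc'_hom n m (m + 1) (by simp [← hnm]) (by simp)] at h2
  exact (MorphismProperty.epimorphisms A).cancel_right_of_respectsIso _ _ |>.1 h2

theorem cyc_exact (K : CochainComplex A ℤ) (n m : ℤ) (hnm : n + 1 = m) : (cyc K n m).Exact := by
  apply ShortComplex.exact_of_f_is_kernel
  exact isKernelOfComp (K.iCycles m) (K.d n m) (K.cyclesIsKernel n m (by simp [← hnm]))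
    _ (by simp)

theorem cyc_shortExact (K : CochainComplex A ℤ) (n m : ℤ) (hnm : n + 1 = m) (h : K.ExactAt m) :
    (cyc K n m).ShortExact := by
  have := epi_toCycles K n m hnm h
  exact { exact := cyc_exact K n m hnm
          mono_f := inferInstanceAs (Mono (K.iCycles n))
          epi_g := this }

section ext

variable [HasExt.{w} A]

theorem cast_succ (n : ℕ) : (n : ℤ) + 1 = ((n + 1 : ℕ) : ℤ) := by push_cast; rfl

/-- The iterated Yoneda class of `0 → Z^0 → K^0 → ⋯ → K^{n-1} → Z^n → 0`. -/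
noncomputable def E (K : CochainComplex A ℤ) (hK : ∀ n : ℕ, K.ExactAt ((n + 1 : ℕ) : ℤ)) :
    (n : ℕ) → Ext.{w} (K.cycles (n : ℤ)) (K.cycles ((0 : ℕ) : ℤ)) n
  | 0 => Ext.mk₀ (𝟙 _)
  | n + 1 => (cyc_shortExact K n ((n + 1 : ℕ) : ℤ) (cast_succ n) (hK n)).extClass.comp (E K hK n) (by omega)

theorem E_naturality {K L : CochainComplex A ℤ} (hK : ∀ n : ℕ, K.ExactAt ((n + 1 : ℕ) : ℤ))
    (hL : ∀ n : ℕ, L.ExactAt ((n + 1 : ℕ) : ℤ)) (f : K ⟶ L) (n : ℕ) :
    (E.{w} K hK n).comp (Ext.mk₀ (HomologicalComplex.cyclesMap f ((0 : ℕ) : ℤ))) (add_zero n) =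
      (Ext.mk₀ (HomologicalComplex.cyclesMap f (n : ℤ))).comp (E L hL n) (zero_add n) := by
  induction n with
  | zero => simp [E]
  | succ n ih =>
    have h1 := ShortComplex.ShortExact.extClass_naturality.{w}
      (cyc_shortExact K n ((n + 1 : ℕ) : ℤ) (cast_succ n) (hK n))
      (cyc_shortExact L n ((n + 1 : ℕ) : ℤ) (cast_succ n) (hL n)) (cycMap f n ((n + 1 : ℕ) : ℤ))
    dsimp only at h1
    rw [E, E]
    rw [← Ext.comp_assoc (a₁₂ := 1) _ _ _ (by omega) (by omega) (by omega), ← h1]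
    rw [Ext.comp_assoc (a₁₂ := 1) (a₂₃ := n) _ _ _ (by omega) (by omega) (by omega)]
    rw [Ext.comp_assoc (a₁₂ := n + 1) (a₂₃ := n) _ _ _ (by omega) (by omega) (by omega), ih]

variable (P : A) (K : CochainComplex A ℤ) (hK : ∀ n : ℕ, K.ExactAt ((n + 1 : ℕ) : ℤ))

/-- Composition with the iterated Yoneda class, as an additive map. -/
noncomputable def φ (n m m' : ℕ) (h : m + n = m') :
    Ext.{w} P (K.cycles (n : ℤ)) m →+ Ext.{w} P (K.cycles ((0 : ℕ) : ℤ)) m' :=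
  (E K hK n).postcomp P h

theorem φ_apply (n m m' : ℕ) (h : m + n = m') (x : Ext.{w} P (K.cycles (n : ℤ)) m) :
    φ P K hK n m m' h x = x.comp (E K hK n) h := rfl

theorem φ_succ (n m m' : ℕ) (h : m + (n + 1) = m') (x : Ext.{w} P (K.cycles ((n + 1 : ℕ) : ℤ)) m) :
    φ P K hK (n + 1) m m' h x = φ P K hK n (m + 1) m' (by omega)
      ((cyc_shortExact K n ((n + 1 : ℕ) : ℤ) (cast_succ n) (hK n)).extClass.postcomp P rfl x) := by
  have := Ext.comp_assoc (a₁ := m) (a₂ := 1) (a₃ := n) (a₁₂ := m + 1) (a₂₃ := n + 1) (a := m')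
    x (cyc_shortExact K n ((n + 1 : ℕ) : ℤ) (cast_succ n) (hK n)).extClass (E K hK n) rfl (by omega) (by omega)
  exact this.symm

/-- Naturality of `φ` in the complex. -/
theorem φ_naturality {L : CochainComplex A ℤ} (hL : ∀ n : ℕ, L.ExactAt ((n + 1 : ℕ) : ℤ)) (f : K ⟶ L)
    (n m m' : ℕ) (h : m + n = m') (x : Ext.{w} P (K.cycles (n : ℤ)) m) :
    φ P L hL n m m' h (x.comp (Ext.mk₀ (HomologicalComplex.cyclesMap f (n : ℤ))) (add_zero m)) =
      (φ P K hK n m m' h x).comp (Ext.mk₀ (HomologicalComplex.cyclesMap f ((0 : ℕ) : ℤ))) (add_zero m') := by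
  rw [φ_apply, φ_apply, Ext.comp_assoc (a₁ := m) (a₂ := 0) (a₃ := n) (a₁₂ := m) (a₂₃ := n) _ _ _
    (by omega) (by omega) (by omega), ← E_naturality hK hL f n,
    Ext.comp_assoc (a₁ := m) (a₂ := n) (a₃ := 0) (a₁₂ := m') (a₂₃ := n) _ _ _
    (by omega) (by omega) (by omega)]

section acyc

variable (acyc : ∀ (k m : ℕ), 0 < m → Subsingleton (Ext.{w} P (K.X (k : ℤ)) m))

include acyc

theorem comp_extClass_injective (k m m' : ℕ) (hm : 0 < m) (h : m + 1 = m') :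
    Function.Injective
      ((cyc_shortExact K k ((k + 1 : ℕ) : ℤ) (cast_succ k) (hK k)).extClass.postcomp P h) := by
  rw [injective_iff_map_eq_zero]
  intro x hx
  obtain ⟨x₂, hx₂⟩ := Ext.covariant_sequence_exact₃ P
    (cyc_shortExact K k ((k + 1 : ℕ) : ℤ) (cast_succ k) (hK k)) x h hx
  have := acyc k m hm
  rw [Subsingleton.elim x₂ 0, Ext.zero_comp] at hx₂
  exact hx₂.symm

theorem comp_extClass_surjective (k m m' : ℕ) (h : m + 1 = m') :
    Function.Surjective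
      ((cyc_shortExact K k ((k + 1 : ℕ) : ℤ) (cast_succ k) (hK k)).extClass.postcomp P h) := by
  intro x
  have := acyc k m' (by omega)
  obtain ⟨x₂, hx₂⟩ := Ext.covariant_sequence_exact₁ P
    (cyc_shortExact K k ((k + 1 : ℕ) : ℤ) (cast_succ k) (hK k)) x
    (Subsingleton.elim _ _) h
  exact ⟨x₂, hx₂⟩

theorem φ_bijective (n : ℕ) : ∀ (m m' : ℕ) (_ : 0 < m) (h : m + n = m'),
    Function.Bijective (φ P K hK n m m' h) := by
  induction n with
  | zero =>
    intro m m' hm h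
    obtain rfl : m = m' := by omega
    have : ∀ x, φ P K hK 0 m m h x = x := by
      intro x
      simp [φ, E]
    exact ⟨fun x y hxy => by simpa [this] using hxy, fun x => ⟨x, this x⟩⟩
  | succ n ih =>
    intro m m' hm h
    have h3 : (φ P K hK (n + 1) m m' h : _ → _) = (φ P K hK n (m + 1) m' (by omega)) ∘
        ((cyc_shortExact K n ((n + 1 : ℕ) : ℤ) (cast_succ n) (hK n)).extClass.postcomp P rfl) :=
      funext (φ_succ P K hK n m m' h)
    rw [h3]
    exact (ih (m + 1) m' (by omega) (by omega)).comp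
      ⟨comp_extClass_injective P K hK acyc n m _ hm rfl,
        comp_extClass_surjective P K hK acyc n m _ rfl⟩

/-- `Hom(P, Z^n) → Ext^n(P, Z^0)` is surjective. -/
theorem φ₀_surjective (n : ℕ) : Function.Surjective (φ P K hK n 0 n (by omega)) := by
  cases n with
  | zero =>
    intro x
    exact ⟨x, by simp [φ, E]⟩
  | succ n =>
    intro y
    obtain ⟨y', rfl⟩ := (φ_bijective P K hK acyc n 1 (n + 1) (by omega) (by omega)).2 y
    obtain ⟨y'', rfl⟩ := comp_extClass_surjective P K hK acyc n 0 1 rfl y'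
    exact ⟨y'', φ_succ P K hK n 0 (n + 1) (by omega) y''⟩

omit acyc in
theorem φ₀_zero_injective : Function.Injective (φ P K hK 0 0 0 rfl) := by
  intro x y hxy
  simpa [φ, E] using hxy

omit acyc in
/-- The image of `Hom(P, K^n)` maps to zero. -/
theorem φ₀_succ_toCycles (n : ℕ) (y : P ⟶ K.X (n : ℤ)) :
    φ P K hK (n + 1) 0 (n + 1) (by omega) (Ext.mk₀ (y ≫ K.toCycles (n : ℤ) ((n + 1 : ℕ) : ℤ))) = 0 := by
  rw [φ_succ]
  have h0 := (cyc_shortExact K n ((n + 1 : ℕ) : ℤ) (cast_succ n) (hK n)).comp_extClass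
  dsimp only at h0
  have h1 : (cyc_shortExact K n ((n + 1 : ℕ) : ℤ) (cast_succ n) (hK n)).extClass.postcomp P rfl
      (Ext.mk₀ (y ≫ K.toCycles (n : ℤ) ((n + 1 : ℕ) : ℤ))) = 0 := by
    change (Ext.mk₀ (y ≫ K.toCycles (n : ℤ) ((n + 1 : ℕ) : ℤ))).comp
      (cyc_shortExact K n ((n + 1 : ℕ) : ℤ) (cast_succ n) (hK n)).extClass (zero_add 1) = 0
    rw [← Ext.mk₀_comp_mk₀, Ext.comp_assoc (a₁ := 0) (a₂ := 0) (a₃ := 1) (a₁₂ := 0) (a₂₃ := 1) _ _ _
      (by omega) (by omega) (by omega), h0, Ext.comp_zero]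
  rw [h1, map_zero]

/-- The kernel of `Hom(P, Z^{n+1}) → Ext^{n+1}(P, Z^0)` is the image of `Hom(P, K^n)`. -/
theorem φ₀_succ_eq_zero_iff (n : ℕ) (z : P ⟶ K.cycles ((n + 1 : ℕ) : ℤ)) :
    φ P K hK (n + 1) 0 (n + 1) (by omega) (Ext.mk₀ z) = 0 ↔
      ∃ y : P ⟶ K.X (n : ℤ), y ≫ K.toCycles (n : ℤ) ((n + 1 : ℕ) : ℤ) = z := by
  constructor
  · intro h
    rw [φ_succ, ← (φ P K hK n 1 (n + 1) (by omega)).map_zero,
      (φ_bijective P K hK acyc n 1 (n + 1) (by omega) (by omega)).1.eq_iff] at h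
    obtain ⟨x₂, hx₂⟩ := Ext.covariant_sequence_exact₃ P
      (cyc_shortExact K n ((n + 1 : ℕ) : ℤ) (cast_succ n) (hK n)) (Ext.mk₀ z) rfl h
    obtain ⟨y, rfl⟩ := Ext.addEquiv₀.symm.surjective x₂
    refine ⟨y, ?_⟩
    apply Ext.addEquiv₀.symm.injective
    simpa using hx₂
  · rintro ⟨y, rfl⟩
    exact φ₀_succ_toCycles P K hK n y

end acyc

end ext

section hom

variable [HasExt.{v} A] (P : A) (K : CochainComplex A ℤ) (hK : ∀ n : ℕ, K.ExactAt ((n + 1 : ℕ) : ℤ))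

/-- `Hom(P, -)`. -/
noncomputable abbrev Γ (P : A) : A ⥤ AddCommGrpCat.{v} := preadditiveCoyoneda.obj (op P)

instance (P : A) : PreservesFiniteLimits (Γ P) :=
  inferInstanceAs (PreservesFiniteLimits (preadditiveCoyoneda.obj (op P)))

/-- `Hom(P, Z^n) → Ext^n(P, Z^0)`. -/
noncomputable def ψ (n : ℕ) : (Γ P).obj (K.cycles (n : ℤ)) ⟶ AddCommGrpCat.of (Ext.{v} P (K.cycles ((0 : ℕ) : ℤ)) n) :=
  AddCommGrpCat.ofHom ((φ P K hK n 0 n (by omega)).comp
    (Ext.addEquiv₀ (X := P) (Y := K.cycles (n : ℤ))).symm.toAddMonoidHom)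

theorem ψ_apply (n : ℕ) (z : P ⟶ K.cycles (n : ℤ)) :
    (ψ P K hK n).hom z = φ P K hK n 0 n (by omega) (Ext.mk₀ z) := rfl

theorem toCycles_ψ (n : ℕ) (m : ℤ) (hm : m + 1 = n) (hneg : m < 0 → IsZero (K.X m)) :
    (Γ P).map (K.toCycles m (n : ℤ)) ≫ ψ P K hK n = 0 := by
  cases n with
  | zero =>
    have h0 : IsZero ((Γ P).obj (K.X m)) := (Γ P).map_isZero (hneg (by
      have : m + 1 = 0 := hm
      omega))
    exact h0.eq_of_src _ _
  | succ n =>
    obtain rfl : m = (n : ℤ) := by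
      push_cast at hm
      omega
    ext y
    exact φ₀_succ_toCycles P K hK n y

variable [K.IsStrictlyGE 0]

/-- The comparison `H^n(Hom(P, K)) ⟶ Ext^n(P, Z^0 K)`. -/
noncomputable def th (n : ℕ) : (mc (Γ P) K).homology (n : ℤ) ⟶
    AddCommGrpCat.of (Ext.{v} P (K.cycles ((0 : ℕ) : ℤ)) n) :=
  ((mc (Γ P) K).homologyIsCokernel ((n : ℤ) - 1) (n : ℤ) (by simp)).desc
    (CokernelCofork.ofπ ((kap (Γ P) K (n : ℤ)).inv ≫ ψ P K hK n) (by
      have h1 := toCycles_kap (Γ P) K ((n : ℤ) - 1) (n : ℤ)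
      have h2 : ((Γ P).map (K.toCycles ((n : ℤ) - 1) (n : ℤ)) ≫ (kap (Γ P) K (n : ℤ)).hom) ≫
          (kap (Γ P) K (n : ℤ)).inv ≫ ψ P K hK n = 0 := by
        refine (Category.assoc _ _ _).trans ?_
        rw [Iso.hom_inv_id_assoc]
        exact toCycles_ψ P K hK n _ (by omega) (fun h => K.isZero_of_isStrictlyGE 0 _ h)
      exact (congrArg (fun t => t ≫ (kap (Γ P) K (n : ℤ)).inv ≫ ψ P K hK n) h1.symm).trans h2))

theorem π_th (n : ℕ) : (mc (Γ P) K).homologyπ (n : ℤ) ≫ th P K hK n =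
    (kap (Γ P) K (n : ℤ)).inv ≫ ψ P K hK n :=
  ((mc (Γ P) K).homologyIsCokernel ((n : ℤ) - 1) (n : ℤ) (by simp)).fac _ WalkingParallelPair.one

theorem kap_π_th (n : ℕ) : (kap (Γ P) K (n : ℤ)).hom ≫ (mc (Γ P) K).homologyπ (n : ℤ) ≫ th P K hK n =
    ψ P K hK n := by
  rw [π_th, Iso.hom_inv_id_assoc]

omit [HasExt.{v} A] [K.IsStrictlyGE 0] in
theorem exists_rep (n : ℤ) (x : (mc (Γ P) K).homology n) :
    ∃ z : P ⟶ K.cycles n, (mc (Γ P) K).homologyπ n ((kap (Γ P) K n).hom z) = x := by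
  have h1 : Function.Surjective ((mc (Γ P) K).homologyπ n) :=
    (AddCommGrpCat.epi_iff_surjective _).1 inferInstance
  have h2 : Function.Surjective ((kap (Γ P) K n).hom) :=
    (ConcreteCategory.bijective_of_isIso (kap (Γ P) K n).hom).2
  obtain ⟨y, rfl⟩ := h1 x
  obtain ⟨z, rfl⟩ := h2 y
  exact ⟨z, rfl⟩

theorem th_rep (n : ℕ) (z : P ⟶ K.cycles (n : ℤ)) :
    th P K hK n ((mc (Γ P) K).homologyπ (n : ℤ) ((kap (Γ P) K (n : ℤ)).hom z)) =
      φ P K hK n 0 n (by omega) (Ext.mk₀ z) :=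
  ConcreteCategory.congr_hom (kap_π_th P K hK n) z

theorem th_bijective (acyc : ∀ (k m : ℕ), 0 < m → Subsingleton (Ext.{v} P (K.X (k : ℤ)) m)) (n : ℕ) :
    Function.Bijective (th P K hK n) := by
  constructor
  · rw [injective_iff_map_eq_zero]
    intro x hx
    obtain ⟨z, rfl⟩ := exists_rep P K (n : ℤ) x
    rw [th_rep] at hx
    cases n with
    | zero =>
      have h1 : (Ext.mk₀ z : Ext.{v} P _ 0) = 0 := φ₀_zero_injective P K hK (hx.trans (map_zero _).symm)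
      have h2 : z = 0 := by
        apply Ext.addEquiv₀.symm.injective
        simpa using h1
      rw [h2]
      have h3 : (kap (Γ P) K ((0 : ℕ) : ℤ)).hom (0 : P ⟶ K.cycles ((0 : ℕ) : ℤ)) = 0 := map_zero _
      exact (congrArg _ h3).trans (map_zero _)
    | succ n =>
      obtain ⟨y, rfl⟩ := (φ₀_succ_eq_zero_iff P K hK acyc n z).1 hx
      have h1 := ConcreteCategory.congr_hom
        (toCycles_kap (Γ P) K (n : ℤ) ((n + 1 : ℕ) : ℤ)) y
      have h2 := ConcreteCategory.congr_hom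
        ((mc (Γ P) K).toCycles_comp_homologyπ (n : ℤ) ((n + 1 : ℕ) : ℤ)) y
      exact (congrArg ((mc (Γ P) K).homologyπ ((n + 1 : ℕ) : ℤ)) h1).trans h2
  · intro y
    obtain ⟨x, rfl⟩ := φ₀_surjective P K hK acyc n y
    obtain ⟨z, rfl⟩ := Ext.addEquiv₀.symm.surjective x
    exact ⟨_, th_rep P K hK n z⟩

/-- Naturality in the complex. -/
theorem th_naturality {L : CochainComplex A ℤ} [L.IsStrictlyGE 0]
    (hL : ∀ n : ℕ, L.ExactAt ((n + 1 : ℕ) : ℤ)) (f : K ⟶ L) (n : ℕ) (x : (mc (Γ P) K).homology (n : ℤ)) :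
    th P L hL n (HomologicalComplex.homologyMap
      (((Γ P).mapHomologicalComplex (ComplexShape.up ℤ)).map f) (n : ℤ) x) =
    (th P K hK n x : Ext.{v} P _ n).comp (Ext.mk₀ (HomologicalComplex.cyclesMap f ((0 : ℕ) : ℤ))) (add_zero n) := by
  obtain ⟨z, rfl⟩ := exists_rep P K (n : ℤ) x
  rw [th_rep]
  have h1 := ConcreteCategory.congr_hom (HomologicalComplex.homologyπ_naturality
    (((Γ P).mapHomologicalComplex (ComplexShape.up ℤ)).map f) (n : ℤ)) ((kap (Γ P) K (n : ℤ)).hom z)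
  have h2 := ConcreteCategory.congr_hom (kap_naturality (Γ P) f (n : ℤ)) z
  have h3 : HomologicalComplex.homologyMap (((Γ P).mapHomologicalComplex (ComplexShape.up ℤ)).map f) (n : ℤ)
      ((mc (Γ P) K).homologyπ (n : ℤ) ((kap (Γ P) K (n : ℤ)).hom z)) =
      (mc (Γ P) L).homologyπ (n : ℤ) ((kap (Γ P) L (n : ℤ)).hom
        (z ≫ HomologicalComplex.cyclesMap f (n : ℤ))) :=
    h1.trans (congrArg ((mc (Γ P) L).homologyπ (n : ℤ)) h2)
  rw [h3, th_rep, ← Ext.mk₀_comp_mk₀]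
  exact φ_naturality P K hK hL f n 0 n (by omega) (Ext.mk₀ z)

end hom

end Groth.Agent.Sga4h.H920.ZExt
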