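import Groth.Agent.Sga4h.H920.ZExt

/-!
# `th` and exact functors
-/

set_option autoImplicit false
set_option maxHeartbeats 400000
universe v u u'

open CategoryTheory CategoryTheory.Limits CategoryTheory.Abelian Opposite

namespace Groth.Agent.Sga4h.H920.ZExt

open Groth.Agent.EtpbcA.LAQ95 Groth.Agent.Sga4B.ExtCmp

variable {A : Type u} [Category.{v} A] [Abelian A] {B : Type u'} [Category.{v} B] [Abelian B]
  (L : A ⥤ B) [L.Additive] [PreservesFiniteLimits L] [PreservesFiniteColimits L]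

theorem exactAt_mc (K : CochainComplex A ℤ) (n : ℤ) (h : K.ExactAt n) : (mc L K).ExactAt n :=
  ShortComplex.Exact.map h L

/-- From `L (cyc K)` to `cyc (L K)`. -/
noncomputable def mapCyc (K : CochainComplex A ℤ) (n m : ℤ) : (cyc K n m).map L ⟶ cyc (mc L K) n m where
  τ₁ := (kap L K n).hom
  τ₂ := 𝟙 _
  τ₃ := (kap L K m).hom
  comm₁₂ := (kap_hom_iCycles L K n).trans (Category.comp_id _).symm
  comm₂₃ := (Category.id_comp _).trans (toCycles_kap L K n m).symm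

section

variable [HasExt.{v} A] [HasExt.{v} B]

theorem E_map (K : CochainComplex A ℤ) (hK : ∀ n : ℕ, K.ExactAt ((n + 1 : ℕ) : ℤ))
    (hL : ∀ n : ℕ, (mc L K).ExactAt ((n + 1 : ℕ) : ℤ)) (n : ℕ) :
    ((E.{v} K hK n).mapExactFunctor L).comp (Ext.mk₀ (kap L K ((0 : ℕ) : ℤ)).hom) (add_zero n) =
      (Ext.mk₀ (kap L K (n : ℤ)).hom).comp (E.{v} (mc L K) hL n) (zero_add n) := by
  induction n with
  | zero => rw [E, E, Ext.mapExactFunctor_mk₀, L.map_id, Ext.mk₀_id_comp, Ext.comp_mk₀_id]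
  | succ n ih =>
    have h1 := ShortComplex.ShortExact.extClass_naturality.{v}
      ((cyc_shortExact K n ((n + 1 : ℕ) : ℤ) (cast_succ n) (hK n)).map_of_exact L)
      (cyc_shortExact (mc L K) n ((n + 1 : ℕ) : ℤ) (cast_succ n) (hL n)) (mapCyc L K n ((n + 1 : ℕ) : ℤ))
    have h2 : ((cyc_shortExact K n ((n + 1 : ℕ) : ℤ) (cast_succ n) (hK n)).extClass).mapExactFunctor L =
      ((cyc_shortExact K n ((n + 1 : ℕ) : ℤ) (cast_succ n) (hK n)).map_of_exact L).extClass :=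
      Ext.mapExactFunctor_extClass L _
    rw [E, E, Ext.mapExactFunctor_comp, h2]
    rw [← Ext.comp_assoc (a₁₂ := 1) _ _ _ (by omega) (by omega) (by omega)]
    have h3 : (Ext.mk₀ (kap L K ((n + 1 : ℕ) : ℤ)).hom).comp
        (cyc_shortExact (mc L K) n ((n + 1 : ℕ) : ℤ) (cast_succ n) (hL n)).extClass (zero_add 1) =
      ((cyc_shortExact K n ((n + 1 : ℕ) : ℤ) (cast_succ n) (hK n)).map_of_exact L).extClass.comp
        (Ext.mk₀ (kap L K (n : ℤ)).hom) (add_zero 1) := h1.symm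
    rw [h3]
    rw [Ext.comp_assoc (a₁₂ := n + 1) (a₂₃ := n) _ _ _ (by omega) (by omega) (by omega), ih]
    exact (Ext.comp_assoc (a₁ := 1) (a₂ := 0) (a₃ := n) (a₁₂ := 1) (a₂₃ := n) _ _ _
      (by omega) (by omega) (by omega)).symm

end

section pl

variable {P : A} {P' : B} (z : P' ⟶ L.obj P)

/-- `Hom(P, M) → Hom(P', L M)`. -/
noncomputable def pl {P : A} {P' : B} (L : A ⥤ B) [L.Additive] (z : P' ⟶ L.obj P) (M : A) :
    (P ⟶ M) →+ (P' ⟶ L.obj M) :=
  AddMonoidHom.mk' (fun g => z ≫ L.map g) (fun a b => by rw [L.map_add, Preadditive.comp_add])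

omit [PreservesFiniteLimits L] [PreservesFiniteColimits L] in
theorem pl_apply (M : A) (g : P ⟶ M) : pl L z M g = z ≫ L.map g := rfl

/-- The map of complexes `Hom(P, K) ⟶ Hom(P', L K)`. -/
noncomputable def plC (K : CochainComplex A ℤ) : mc (Γ P) K ⟶ mc (Γ P') (mc L K) where
  f m := show (Γ P).obj (K.X m) ⟶ (Γ P').obj (L.obj (K.X m)) from AddCommGrpCat.ofHom (pl L z (K.X m))
  comm' i j _ := by
    ext g
    change (z ≫ L.map g) ≫ L.map (K.d i j) = z ≫ L.map (g ≫ K.d i j)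
    rw [L.map_comp, Category.assoc]

theorem plC_f_apply (K : CochainComplex A ℤ) (m : ℤ) (g : P ⟶ K.X m) :
    (plC L z K).f m g = (z ≫ L.map g : P' ⟶ L.obj (K.X m)) := rfl

theorem cyclesMap_plC (K : CochainComplex A ℤ) (n : ℤ) (g : P ⟶ K.cycles n) :
    HomologicalComplex.cyclesMap (plC L z K) n ((kap (Γ P) K n).hom g) =
      (kap (Γ P') (mc L K) n).hom (z ≫ L.map g ≫ (kap L K n).hom : P' ⟶ (mc L K).cycles n) := by
  have hinj : Function.Injective ((mc (Γ P') (mc L K)).iCycles n) :=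
    (AddCommGrpCat.mono_iff_injective _).1 inferInstance
  apply hinj
  have h1 := ConcreteCategory.congr_hom (HomologicalComplex.cyclesMap_i (plC L z K) n)
    ((kap (Γ P) K n).hom g)
  have h2 := ConcreteCategory.congr_hom (kap_hom_iCycles (Γ P) K n) g
  have h3 := ConcreteCategory.congr_hom (kap_hom_iCycles (Γ P') (mc L K) n)
    (z ≫ L.map g ≫ (kap L K n).hom : P' ⟶ (mc L K).cycles n)
  refine h1.trans (Eq.trans ?_ h3.symm)
  refine (congrArg ((plC L z K).f n) h2).trans ?_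
  change z ≫ L.map (g ≫ K.iCycles n) = (z ≫ L.map g ≫ (kap L K n).hom) ≫ (mc L K).iCycles n
  rw [Category.assoc, Category.assoc, kap_hom_iCycles, L.map_comp]
  rfl

variable [HasExt.{v} A] [HasExt.{v} B]

theorem th_map (K : CochainComplex A ℤ) [K.IsStrictlyGE 0]
    (hK : ∀ n : ℕ, K.ExactAt ((n + 1 : ℕ) : ℤ))
    (hL : ∀ n : ℕ, (mc L K).ExactAt ((n + 1 : ℕ) : ℤ)) [(mc L K).IsStrictlyGE 0] (n : ℕ)
    (x : (mc (Γ P) K).homology (n : ℤ)) :
    th P' (mc L K) hL n (HomologicalComplex.homologyMap (plC L z K) (n : ℤ) x) =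
      (cmp L z _ n (th P K hK n x : Ext.{v} P _ n)).comp (Ext.mk₀ (kap L K ((0 : ℕ) : ℤ)).hom)
        (add_zero n) := by
  obtain ⟨g, rfl⟩ := exists_rep P K (n : ℤ) x
  rw [th_rep]
  have h1 := ConcreteCategory.congr_hom (HomologicalComplex.homologyπ_naturality
    (plC L z K) (n : ℤ)) ((kap (Γ P) K (n : ℤ)).hom g)
  have h3 : HomologicalComplex.homologyMap (plC L z K) (n : ℤ)
      ((mc (Γ P) K).homologyπ (n : ℤ) ((kap (Γ P) K (n : ℤ)).hom g)) =
      (mc (Γ P') (mc L K)).homologyπ (n : ℤ) ((kap (Γ P') (mc L K) (n : ℤ)).hom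
        (z ≫ L.map g ≫ (kap L K (n : ℤ)).hom : P' ⟶ (mc L K).cycles (n : ℤ))) :=
    h1.trans (congrArg ((mc (Γ P') (mc L K)).homologyπ (n : ℤ)) (cyclesMap_plC L z K (n : ℤ) g))
  rw [h3, th_rep, φ_apply, φ_apply, cmp_apply]
  rw [Ext.mapExactFunctor_comp, Ext.mapExactFunctor_mk₀]
  rw [← Ext.mk₀_comp_mk₀, ← Ext.mk₀_comp_mk₀]
  rw [Ext.comp_assoc (a₁ := 0) (a₂ := n) (a₃ := 0) (a₁₂ := n) (a₂₃ := n) _ _ _
    (by omega) (by omega) (by omega)]
  rw [Ext.comp_assoc (a₁ := 0) (a₂ := n) (a₃ := 0) (a₁₂ := n) (a₂₃ := n) _ _ _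
    (by omega) (by omega) (by omega), E_map L K hK hL n]
  rw [Ext.comp_assoc (a₁ := 0) (a₂ := 0) (a₃ := n) (a₁₂ := 0) (a₂₃ := n) _ _ _
    (by omega) (by omega) (by omega)]
  congr 1
  rw [Ext.comp_assoc (a₁ := 0) (a₂ := 0) (a₃ := n) (a₁₂ := 0) (a₂₃ := n) _ _ _
    (by omega) (by omega) (by omega)]

end pl

end Groth.Agent.Sga4h.H920.ZExt
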